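import Cfsg.Agent.H228.GoodK_m3
import Cfsg.Agent.H425.KFix_m3
import Cfsg.Agent.H228.E3Kill_m3
import Mathlib
import Cfsg.Agent.H129.CycRow
import Cfsg.Agent.H94.Sp.Base_m3
import Cfsg.Agent.H72.F4I.Num_m3
import Cfsg.Agent.H366.X.Row
import Cfsg.Agent.H360.Iso.Cls
import Cfsg.Agent.FastGrp
import Cfsg.Agent.Prune
set_option linter.all false

section
prune_inst 0x7fbefef8afbc3ddfffff7e7ffff0dffc1bd4dfffffdffb43ffe8ebff9fff03bf3bc5fbaf1de4d8ff8ed6e2b430b87853fb7eceffea6bdc7ffffd5ff41ffbee1ff7ffb78111d190240f746fff9bf077ca7f3fffffffffdfffffffffffffffffffffffffffffff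

-- part: R2/Spec/F1/KAdj
section
prune_inst 0x400003004080000000018000040001e4282000000000b80014100060006800c4220000e20802005020000804400300048110000100210000000000400011800800080c60062c1a108a00006001002400000000000020000000000000000000000000000000
set_option linter.all false
open scoped Cfsg.Agent.FastGrp

-- part: R2/Spec/F1/Shult
section
/-!
# The Hall–Higman argument for kernels of primes, all characteristics (helper23)

* `comm_gen'` : `ShultGen.comm_gen` where the subgroup only has to act as an abelian group;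
* `shult_fix'` : `GoodK.shult_fix` with the alternative hypotheses `P` acts on `U` as an abelian group, or
  `(w - 1) ^ 2 ∤ |P|`.
-/

set_option autoImplicit false
set_option linter.unusedSectionVars false

namespace Cfsg.Agent.R2.Spec.F1

open Subgroup

universe u v

/-- `comm_gen` with an abelian action -/
theorem comm_gen' {F : Type*} [Field F] {G : Type u} [Group G]
    [Finite G] {V : Type v} [AddCommGroup V] [Module F V] [FiniteDimensional F V]
    (ρ : Representation F G V) (K : Subgroup G) (x : G) {r : ℕ} (hr : r.Prime) (hr2 : r ≠ 2)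
    (hxr : x ^ r = 1) (hxK : ∀ k ∈ K, x * k * x⁻¹ ∈ K) (hsol : Group.IsSolvable K)
    (hodd : ((∀ a ∈ K, ∀ b ∈ K, ρ (a * b) = ρ (b * a)) ∨ ¬ (r - 1) ^ 2 ∣ Nat.card K)) (hrK : ¬ r ∣ Nat.card K)
    (hKF : (Nat.card K : F) ≠ 0)
    (hrF : (r : F) ≠ 0) (hfix : ∀ v, ρ x v = v → v = 0) : ∀ k ∈ K, ρ (x * k) = ρ (k * x) := by
  rcases hodd with hab | hcard
  · -- pass to the quotient by the kernel
    obtain ⟨N, hN⟩ : ∃ N : Subgroup G, N = MonoidHom.ker ρ := ⟨_, rfl⟩
    have hNn : N.Normal := hN ▸ inferInstance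
    obtain ⟨ρ', hρ'⟩ : ∃ ρ' : Representation F (G ⧸ N) V, ∀ g : G, ρ' (QuotientGroup.mk' N g) = ρ g :=
      ⟨QuotientGroup.lift N ρ (fun g hg => by rw [hN] at hg; exact hg), fun g => rfl⟩
    obtain ⟨K', hK'⟩ : ∃ K' : Subgroup (G ⧸ N), K' = K.map (QuotientGroup.mk' N) := ⟨_, rfl⟩
    have hcard' : Nat.card K' ∣ Nat.card K := hK' ▸ Subgroup.card_map_dvd _ _
    have hsol' : Group.IsSolvable K' := by
      rw [hK']
      have := hsol
      exact Group.isSolvable_of_surjective (f := (QuotientGroup.mk' N).subgroupMap K)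
        ((QuotientGroup.mk' N).subgroupMap_surjective K)
    have h1 : (QuotientGroup.mk' N x) ^ r = 1 := by rw [← map_pow, hxr, map_one]
    have h2 : ∀ k ∈ K', QuotientGroup.mk' N x * k * (QuotientGroup.mk' N x)⁻¹ ∈ K' := by
      rw [hK']
      rintro _ ⟨k, hk, rfl⟩
      exact ⟨x * k * x⁻¹, hxK k hk, by rw [map_mul, map_mul, map_inv]⟩
    have h3 : ∀ a ∈ K', ∀ b ∈ K', a * b = b * a := by
      rw [hK']
      rintro _ ⟨a, ha, rfl⟩ _ ⟨b, hb, rfl⟩
      rw [← map_mul, ← map_mul]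
      change ((a * b : G) : G ⧸ N) = ((b * a : G) : G ⧸ N)
      rw [QuotientGroup.eq, hN, MonoidHom.mem_ker, map_mul, ← hab a ha b hb, ← map_mul, inv_mul_cancel, map_one]
    have h4 : ¬ r ∣ Nat.card K' := fun hd => hrK (hd.trans hcard')
    have h5 : (Nat.card K' : F) ≠ 0 := by
      intro h0
      apply hKF
      obtain ⟨c, hc⟩ := hcard'
      rw [hc, Nat.cast_mul, h0, zero_mul]
    have h6 : ∀ v, ρ' (QuotientGroup.mk' N x) v = v → v = 0 := by
      intro v hv
      rw [hρ'] at hv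
      exact hfix v hv
    have h := Cfsg.Agent.H271.ShultGen.comm_gen ρ' K' (QuotientGroup.mk' N x) hr hr2 h1 h2 hsol' (Or.inl h3) h4 h5 hrF h6
    intro k hk
    have h7 := h (QuotientGroup.mk' N k) (hK' ▸ ⟨k, hk, rfl⟩)
    rw [← map_mul, ← map_mul, hρ', hρ'] at h7
    exact h7
  · exact Cfsg.Agent.H271.ShultGen.comm_gen ρ K x hr hr2 hxr hxK hsol (Or.inr hcard) hrK hKF hrF hfix

theorem shult_fix' {X : Type u} [Group X] [Finite X] {r w : ℕ} (hr : r.Prime) (hw : w.Prime) (hw2 : w ≠ 2)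
    (hwr : w ≠ r) (U P : Subgroup X) (y : X) (hUab : ∀ a ∈ U, ∀ b ∈ U, a * b = b * a) (hUexp : ∀ u ∈ U, u ^ r = 1)
    (hPU : ∀ p ∈ P, ∀ u ∈ U, p * u * p⁻¹ ∈ U) (hyU : ∀ u ∈ U, y * u * y⁻¹ ∈ U) (hyP : ∀ p ∈ P, y * p * y⁻¹ ∈ P)
    (hyw : y ^ w = 1) (hsol : Group.IsSolvable P)
    (hodd : (∀ a ∈ P, ∀ b ∈ P, ∀ u ∈ U, (a * b) * u * (a * b)⁻¹ = (b * a) * u * (b * a)⁻¹) ∨
      ¬ (w - 1) ^ 2 ∣ Nat.card P) (hwP : ¬ w ∣ Nat.card P)
    (hrP : ¬ r ∣ Nat.card P) (hfix : ∀ u ∈ U, y * u = u * y → u = 1) :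
    ∀ p ∈ P, ∀ u ∈ U, (y * p * y⁻¹ * p⁻¹) * u = u * (y * p * y⁻¹ * p⁻¹) := by
  classical
  have := Fact.mk hr
  -- the stabilizer of `U`
  have hconj : ∀ g : X, (∀ u ∈ U, g * u * g⁻¹ ∈ U) → g ∈ normalizer (U : Set X) := by
    intro g hg
    rw [mem_normalizer_iff]
    have h1 : (U.map (MulAut.conj g).toMonoidHom : Subgroup X) = U := by
      refine Subgroup.eq_of_le_of_card_ge ?_ ?_
      · rintro _ ⟨u, hu, rfl⟩
        exact hg u hu
      · rw [Subgroup.card_map_of_injective (MulAut.conj g).injective]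
    intro u
    constructor
    · exact hg u
    · intro h
      rw [← h1] at h
      obtain ⟨t, ht, ht'⟩ := h
      have : t = u := by
        have h2 : g * t * g⁻¹ = g * u * g⁻¹ := ht'
        simpa using h2
      rwa [← this]
  let H : Subgroup X := normalizer (U : Set X)
  obtain ⟨E, _, _, _, e, ρ, he, hρ⟩ := Cfsg.Agent.H718.exists_conjRep r H U hUab hUexp (fun h hh u hu =>
    (mem_normalizer_iff.1 hh u).1 hu)
  have hPH : P ≤ H := fun p hp => hconj p (hPU p hp)
  have hyH : y ∈ H := hconj y hyU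
  have hcP : Nat.card (P.subgroupOf H) = Nat.card P := Nat.card_congr (Subgroup.subgroupOfEquivOfLe hPH).toEquiv
  have hne : ∀ n : ℕ, ¬ r ∣ n → (n : ZMod r) ≠ 0 := by
    intro n hn h
    exact hn ((ZMod.natCast_eq_zero_iff _ _).1 h)
  have he1 : e 0 = 1 := by
    have := he 0 0
    rw [add_zero] at this
    exact left_eq_mul.1 this
  have hmain := comm_gen' ρ (P.subgroupOf H) ⟨y, hyH⟩ hw hw2 (Subtype.ext hyw)
    (fun k hk => hyP _ hk) (by
      have := hsol
      exact Group.isSolvable_of_isSolvable_injective (f := (Subgroup.subgroupOfEquivOfLe hPH).toMonoidHom)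
        (Subgroup.subgroupOfEquivOfLe hPH).injective)
    (by
      rcases hodd with hodd | hodd
      · left
        rintro ⟨a, ha⟩ haP ⟨b, hb⟩ hbP
        apply LinearMap.ext
        intro s
        apply e.injective
        apply Subtype.ext
        have h1 := hρ (⟨a, ha⟩ * ⟨b, hb⟩) s
        have h2 := hρ (⟨b, hb⟩ * ⟨a, ha⟩) s
        rw [h1, h2]
        exact hodd a haP b hbP _ (e s).2
      · right
        rwa [hcP]) (by rw [hcP]; exact hwP) (by rw [hcP]; exact hne _ hrP)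
    (hne _ (fun h => hwr ((Nat.prime_dvd_prime_iff_eq hr hw).1 h).symm)) (by
      intro s hs
      have h1 := hρ ⟨y, hyH⟩ s
      rw [hs] at h1
      have h2 : y * ((e s : U) : X) = ((e s : U) : X) * y := by
        have h3 : ((e s : U) : X) = y * (e s : U) * y⁻¹ := h1
        calc y * ((e s : U) : X) = (y * (e s : U) * y⁻¹) * y := by group
          _ = ((e s : U) : X) * y := by rw [← h3]
      have h3 := hfix _ (e s).2 h2
      apply e.injective
      rw [he1]
      exact Subtype.ext h3)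
  intro p hp u hu
  have h1 := hmain ⟨p, hPH hp⟩ hp
  -- the commutator acts trivially
  have hd : y * p * y⁻¹ * p⁻¹ ∈ H := H.mul_mem (H.mul_mem (H.mul_mem hyH (hPH hp)) (H.inv_mem hyH)) (H.inv_mem (hPH hp))
  have h2 : ρ ⟨y * p * y⁻¹ * p⁻¹, hd⟩ = 1 := by
    have e1 : (⟨y * p * y⁻¹ * p⁻¹, hd⟩ : H) = (⟨y, hyH⟩ * ⟨p, hPH hp⟩) * (⟨p, hPH hp⟩ * ⟨y, hyH⟩)⁻¹ := by
      apply Subtype.ext
      change y * p * y⁻¹ * p⁻¹ = (y * p) * (p * y)⁻¹
      group
    rw [e1, map_mul, h1, ← map_mul, mul_inv_cancel, map_one]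
  have h3 := hρ ⟨y * p * y⁻¹ * p⁻¹, hd⟩ (e.symm ⟨u, hu⟩)
  rw [h2, Module.End.one_apply, Equiv.apply_symm_apply] at h3
  have h4 : u = (y * p * y⁻¹ * p⁻¹) * u * (y * p * y⁻¹ * p⁻¹)⁻¹ := h3
  calc (y * p * y⁻¹ * p⁻¹) * u = ((y * p * y⁻¹ * p⁻¹) * u * (y * p * y⁻¹ * p⁻¹)⁻¹) * (y * p * y⁻¹ * p⁻¹) := by group
    _ = u * (y * p * y⁻¹ * p⁻¹) := by rw [← h4]

end Cfsg.Agent.R2.Spec.F1
end

-- part: R2/Spec/F1/KAdj
section
/-!
# Primes of the nilpotent radical (helper23)

* `exists_order` : `K` nilpotent normal in `G`, `S` simple normal in `G / K`, `s ∣ |K|`, `c ∈ S` of odd prime order `w`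
  acting non-trivially on a `v`-subgroup `Q` of `S`, `v ≠ s`: `G` has an element of order `w s`. For `v = 2` and a
  Fermat prime `w` the group `Q` has to be abelian.
* `MovW S v w` : the corresponding property of `S`; `kadj`.
-/

set_option autoImplicit false
set_option linter.unusedSectionVars false

namespace Cfsg.Agent.R2.Spec.F1

open Subgroup
open Cfsg.Agent.H228.GoodK (om om_ne_bot order_mul)

universe u

/-- Sylow subgroups for different primes of a nilpotent group commute -/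
theorem comm_of_nilpotent' {K : Type*} [Group K] [Finite K] (hK : Group.IsNilpotent K) {p r : ℕ} (hp : p.Prime)
    (hr : r.Prime) (hpr : p ≠ r) {a b : K} (ha : ∃ i, a ^ p ^ i = 1) (hb : ∃ i, b ^ r ^ i = 1) : a * b = b * a := by
  have := Fact.mk hp
  have := Fact.mk hr
  have hn : ∀ (q : ℕ) (_ : Fact q.Prime) (P : Sylow q K), (P : Subgroup K).Normal := by
    intro q hq P
    have h0 := ((Group.isNilpotent_of_finite_tfae (G := K)).out 0 3).1 hK
    exact @h0 q hq P
  have key : ∀ (q : ℕ) (hq : q.Prime) (P : Sylow q K) (c : K), (∃ i, c ^ q ^ i = 1) → c ∈ (P : Subgroup K) := by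
    intro q hq P c hc
    have := Fact.mk hq
    have hcp : IsPGroup q (zpowers c) := by
      obtain ⟨i, hi⟩ := hc
      obtain ⟨j, -, hj⟩ := (Nat.dvd_prime_pow hq).1 (orderOf_dvd_of_pow_eq_one hi)
      exact IsPGroup.of_card (n := j) (by rw [Nat.card_zpowers, hj])
    obtain ⟨Q, hQ⟩ := hcp.exists_le_sylow
    have h1 := hn q this P
    have h2 : P = Q := by
      obtain ⟨g, hg⟩ := MulAction.exists_smul_eq K P Q
      rw [← hg]
      exact (Sylow.smul_eq_of_normal).symm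
    rw [h2]
    exact hQ (mem_zpowers c)
  obtain ⟨P⟩ : Nonempty (Sylow p K) := inferInstance
  obtain ⟨R⟩ : Nonempty (Sylow r K) := inferInstance
  have h1 := hn p inferInstance P
  have h2 := hn r inferInstance R
  have h3 : Disjoint (P : Subgroup K) (R : Subgroup K) := IsPGroup.disjoint_of_ne p r hpr _ _ P.isPGroup' R.isPGroup'
  exact Subgroup.commute_of_normal_of_disjoint _ _ h1 h2 h3 a b (key p hp P a ha) (key r hr R b hb)

theorem comm_of_nilpotent {G : Type*} [Group G] [Finite G] {K : Subgroup G} (hK : Group.IsNilpotent K) {p r : ℕ}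
    (hpr : p ≠ r) {P R : Subgroup G} (hP : IsPGroup p P) (hR : IsPGroup r R) [Fact p.Prime] [Fact r.Prime]
    {a b : G} (ha : a ∈ P) (haK : a ∈ K) (hb : b ∈ R) (hbK : b ∈ K) : a * b = b * a := by
  have hp : p.Prime := Fact.out
  have hr : r.Prime := Fact.out
  have h := comm_of_nilpotent' hK hp hr hpr (a := ⟨a, haK⟩) (b := ⟨b, hbK⟩)
    (by
      obtain ⟨i, hi⟩ := hP ⟨a, ha⟩
      have h1 : a ^ p ^ i = 1 := congrArg Subtype.val hi
      exact ⟨i, Subtype.ext h1⟩)
    (by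
      obtain ⟨i, hi⟩ := hR ⟨b, hb⟩
      have h1 : b ^ r ^ i = 1 := congrArg Subtype.val hi
      exact ⟨i, Subtype.ext h1⟩)
  exact congrArg Subtype.val h

/-- **The kernel lemma.** -/
theorem exists_order_aux {G : Type u} [Group G] [Finite G] {K : Subgroup G} [K.Normal] (hKn : Group.IsNilpotent K)
    {S : Subgroup (G ⧸ K)}
    [hSn : S.Normal] (hS : IsSimpleGroup S) {r w v : ℕ} (hr : r.Prime) (hw : w.Prime) (hv : v.Prime) (hw2 : w ≠ 2)
    (hvw : v ≠ w) (hvr : v ≠ r) (hwr : w ≠ r) (hrK : r ∣ Nat.card K) (hwK : ¬ w ∣ Nat.card K)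
    (hwS : w ∣ Nat.card S) {Q : Subgroup (G ⧸ K)} (hQS : Q ≤ S) (hQ : IsPGroup v Q) {c : G ⧸ K} (hc : c ^ w = 1)
    (hcQ : ∀ y ∈ Q, c * y * c⁻¹ ∈ Q) (hnc : ∃ y ∈ Q, c * y ≠ y * c)
    (hv2 : v ≠ 2 ∨ (∀ k : ℕ, w ≠ 2 ^ k + 1) ∨ ∀ a ∈ Q, ∀ b ∈ Q, a * b = b * a) : ∃ x : G, orderOf x = w * r := by
  classical
  have := Fact.mk hr
  have := Fact.mk hw
  have := Fact.mk hv
  set π : G →* G ⧸ K := QuotientGroup.mk' K with hπ
  have hπs : Function.Surjective π := QuotientGroup.mk'_surjective K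
  have hπk : ∀ x : G, π x = 1 ↔ x ∈ K := fun x => QuotientGroup.eq_one_iff x
  -- the Sylow subgroup of `K` and its normalizer
  obtain ⟨R₀⟩ : Nonempty (Sylow r K) := inferInstance
  set R : Subgroup G := (R₀ : Subgroup K).map K.subtype with hRdef
  set N : Subgroup G := normalizer (R : Set G) with hNdef
  have hNK : N ⊔ K = ⊤ := Sylow.normalizer_sup_eq_top R₀
  have hRp : IsPGroup r R := R₀.isPGroup'.map _
  have hR1 : R ≠ ⊥ := by
    intro h
    have h1 : (R₀ : Subgroup K) = ⊥ := by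
      rw [hRdef, Subgroup.map_eq_bot_iff_of_injective _ K.subtype_injective] at h
      exact h
    have h2 := Sylow.card_eq_multiplicity R₀
    rw [h1, Subgroup.card_bot] at h2
    have h3 : 1 ≤ (Nat.card K).factorization r := by
      exact (hr.dvd_iff_one_le_factorization Nat.card_pos.ne').1 hrK
    have h4 : r ∣ 1 := by
      rw [h2]
      exact dvd_pow_self _ (by omega)
    exact hr.one_lt.ne' (Nat.dvd_one.1 h4)
  have hNs : ∀ g : G ⧸ K, ∃ n ∈ N, π n = g := by
    intro g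
    obtain ⟨x, rfl⟩ := hπs g
    have hx : x ∈ N ⊔ K := hNK ▸ mem_top x
    obtain ⟨n, hn, k, hk, rfl⟩ := Subgroup.mem_sup_of_normal_right.1 hx
    refine ⟨n, hn, ?_⟩
    rw [map_mul, (hπk k).2 hk, mul_one]
  have hNR : ∀ n ∈ N, ∀ x ∈ R, n * x * n⁻¹ ∈ R := fun n hn x hx => (mem_normalizer_iff.1 hn x).1 hx
  have hNR' : ∀ n ∈ N, ∀ x ∈ R, n⁻¹ * x * n ∈ R := fun n hn x hx => by
    have := hNR n⁻¹ (N.inv_mem hn) x hx
    rwa [inv_inv] at this
  obtain ⟨u₀, hu₀, hu₁⟩ := om_ne_bot hr hRp hR1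
  have hUN : ∀ n ∈ N, ∀ u ∈ om r R, n * u * n⁻¹ ∈ om r R := by
    rintro n hn u ⟨hu1, hu2, hu3⟩
    refine ⟨hNR n hn u hu1, fun x hx => ?_, ?_⟩
    · have h1 := hu2 _ (hNR' n hn x hx)
      calc n * u * n⁻¹ * x = n * (u * (n⁻¹ * x * n)) * n⁻¹ := by group
        _ = n * ((n⁻¹ * x * n) * u) * n⁻¹ := by rw [h1]
        _ = x * (n * u * n⁻¹) := by group
    · rw [conj_pow, hu3, mul_one, mul_inv_cancel]
  -- the preimage of `Q` in `N`
  set M : Subgroup G := N ⊓ Q.comap π with hM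
  have hcQ' : ∀ y ∈ Q, c⁻¹ * y * c ∈ Q := by
    intro y hy
    have h1 : (Q.map (MulAut.conj c).toMonoidHom : Subgroup (G ⧸ K)) = Q := by
      refine Subgroup.eq_of_le_of_card_ge ?_ ?_
      · rintro _ ⟨u, hu, rfl⟩
        exact hcQ u hu
      · rw [Subgroup.card_map_of_injective (MulAut.conj c).injective]
    rw [← h1] at hy
    obtain ⟨t, ht, rfl⟩ := hy
    have h2 : c⁻¹ * ((MulAut.conj c).toMonoidHom t) * c = t := by
      change c⁻¹ * (c * t * c⁻¹) * c = t
      group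
    rw [h2]
    exact ht
  obtain ⟨x, hxN, hxc⟩ := hNs c
  have hxM : ∀ m ∈ M, x * m * x⁻¹ ∈ M := by
    rintro m ⟨hm1, hm2⟩
    refine ⟨N.mul_mem (N.mul_mem hxN hm1) (N.inv_mem hxN), ?_⟩
    change π (x * m * x⁻¹) ∈ Q
    rw [map_mul, map_mul, map_inv, hxc]
    exact hcQ _ hm2
  have hxM' : ∀ m ∈ M, x⁻¹ * m * x ∈ M := by
    rintro m ⟨hm1, hm2⟩
    refine ⟨N.mul_mem (N.mul_mem (N.inv_mem hxN) hm1) hxN, ?_⟩
    change π (x⁻¹ * m * x) ∈ Q
    rw [map_mul, map_mul, map_inv, hxc]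
    exact hcQ' _ hm2
  let σ : MulAut M :=
    { toFun := fun m => ⟨x * m * x⁻¹, hxM m m.2⟩
      invFun := fun m => ⟨x⁻¹ * m * x, hxM' m m.2⟩
      left_inv := fun m => Subtype.ext (by change x⁻¹ * (x * (m : G) * x⁻¹) * x = m; group)
      right_inv := fun m => Subtype.ext (by change x * (x⁻¹ * (m : G) * x) * x⁻¹ = m; group)
      map_mul' := fun a b => Subtype.ext (by
        change x * ((a : G) * b) * x⁻¹ = (x * a * x⁻¹) * (x * b * x⁻¹); group) }
  obtain ⟨P₁⟩ : Nonempty (Sylow v M) := inferInstance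
  obtain ⟨m, hm⟩ := MulAction.exists_smul_eq M (σ • P₁) P₁
  set P : Subgroup G := (P₁ : Subgroup M).map M.subtype with hP
  have hPp : IsPGroup v P := P₁.isPGroup'.map _
  have hPM : P ≤ M := Subgroup.map_subtype_le _
  -- `m x` normalizes `P`
  have hmx : ∀ p ∈ P, ((m : G) * x) * p * ((m : G) * x)⁻¹ ∈ P := by
    rintro _ ⟨p, hp, rfl⟩
    have h1 : σ p ∈ (σ • P₁ : Sylow v M) := ⟨p, hp, rfl⟩
    have h2 : MulAut.conj m (σ p) ∈ (m • (σ • P₁) : Sylow v M) := ⟨σ p, h1, rfl⟩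
    rw [hm] at h2
    refine ⟨_, h2, ?_⟩
    change (m : G) * (x * (p : G) * x⁻¹) * (m : G)⁻¹ = (m : G) * x * p * ((m : G) * x)⁻¹
    group
  -- `P` covers `Q`
  have hPQ : ∀ g ∈ Q, ∃ p ∈ P, π p = g := by
    intro g hg
    let πM : M →* Q := (π.comp M.subtype).codRestrict Q (fun m => m.2.2)
    have hsur : Function.Surjective πM := by
      rintro ⟨g, hg⟩
      obtain ⟨n, hn, hn'⟩ := hNs g
      exact ⟨⟨n, hn, by change π n ∈ Q; rw [hn']; exact hg⟩, Subtype.ext hn'⟩
    have h1 : ((P₁.mapSurjective hsur : Sylow v Q) : Subgroup Q) = ⊤ := by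
      have h3 : IsPGroup v (⊤ : Subgroup Q) := IsPGroup.of_equiv hQ Subgroup.topEquiv.symm
      exact (P₁.mapSurjective hsur).is_maximal' h3 le_top |>.symm
    have h2 : (⟨g, hg⟩ : Q) ∈ ((P₁.mapSurjective hsur : Sylow v Q) : Subgroup Q) := h1 ▸ mem_top _
    obtain ⟨p, hp, hp'⟩ := h2
    exact ⟨p, ⟨p, hp, rfl⟩, congrArg Subtype.val hp'⟩
  have hmQ : π m ∈ Q := m.2.2
  obtain ⟨p₁, hp₁, hp₁'⟩ := hPQ _ hmQ
  -- the corrected element
  obtain ⟨x₂, hx₂⟩ : ∃ x₂ : G, x₂ = p₁⁻¹ * ((m : G) * x) := ⟨_, rfl⟩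
  have hx₂N : x₂ ∈ N := by
    rw [hx₂]
    exact N.mul_mem (N.inv_mem (hPM hp₁).1) (N.mul_mem m.2.1 hxN)
  have hx₂c : π x₂ = c := by
    rw [hx₂, map_mul, map_inv, hp₁', map_mul, hxc]
    group
  have hx₂P : ∀ p ∈ P, x₂ * p * x₂⁻¹ ∈ P := by
    intro p hp
    rw [hx₂]
    have h1 : p₁⁻¹ * ((m : G) * x) * p * (p₁⁻¹ * ((m : G) * x))⁻¹ = p₁⁻¹ * (((m : G) * x) * p * ((m : G) * x)⁻¹) * p₁ := by
      group
    rw [h1]
    exact P.mul_mem (P.mul_mem (P.inv_mem hp₁) (hmx p hp)) hp₁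
  -- the element of order `w`
  obtain ⟨y, hyN, hyc, hyP, hyw⟩ : ∃ y ∈ N, π y = c ∧ (∀ p ∈ P, y * p * y⁻¹ ∈ P) ∧ y ^ w = 1 := by
    have h1 : x₂ ^ w ∈ K := by
      rw [← hπk, map_pow, hx₂c, hc]
    have h2 : orderOf (x₂ ^ w) ∣ Nat.card K := by
      have := orderOf_dvd_natCard (⟨x₂ ^ w, h1⟩ : K)
      rwa [Subgroup.orderOf_mk] at this
    have h3 : Nat.Coprime (orderOf (x₂ ^ w)) w :=
      ((Nat.Prime.coprime_iff_not_dvd hw).2 fun h => hwK (h.trans h2)).symm
    obtain ⟨b, hb⟩ := Nat.exists_mul_mod_eq_one_of_coprime h3 hw.one_lt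
    have hpow : ∀ k : ℕ, ∀ p ∈ P, x₂ ^ k * p * (x₂ ^ k)⁻¹ ∈ P := by
      intro k
      induction k with
      | zero => intro p hp; simpa using hp
      | succ k ih =>
        intro p hp
        have h4 := hx₂P _ (ih p hp)
        have h5 : x₂ ^ (k + 1) * p * (x₂ ^ (k + 1))⁻¹ = x₂ * (x₂ ^ k * p * (x₂ ^ k)⁻¹) * x₂⁻¹ := by
          rw [pow_succ']
          group
        rwa [h5]
    refine ⟨x₂ ^ (orderOf (x₂ ^ w) * b), N.pow_mem hx₂N _, ?_, hpow _, ?_⟩
    · rw [map_pow, hx₂c]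
      conv_rhs => rw [← pow_one c]
      rw [pow_eq_pow_iff_modEq]
      have h4 : orderOf c ∣ w := orderOf_dvd_of_pow_eq_one hc
      refine Nat.ModEq.of_dvd h4 ?_
      rw [Nat.ModEq, hb.2, Nat.mod_eq_of_lt hw.one_lt]
    · rw [← pow_mul, mul_comm, pow_mul, pow_mul, pow_orderOf_eq_one, one_pow]
  have hy1 : y ≠ 1 := by
    rintro rfl
    rw [map_one] at hyc
    obtain ⟨q₀, -, h⟩ := hnc
    rw [← hyc, one_mul, mul_one] at h
    exact h rfl
  by_cases hfix : ∀ u ∈ om r R, y * u = u * y → u = 1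
  · -- the commutators centralize `U`
    have hcardP : ∃ k : ℕ, Nat.card P = v ^ k := IsPGroup.iff_card.1 hPp
    obtain ⟨k, hk⟩ := hcardP
    have hPU : ∀ p ∈ P, ∀ u ∈ om r R, p * u * p⁻¹ ∈ om r R := fun p hp => hUN p (hPM hp).1
    have hsolP : Group.IsSolvable P := by
      have := hPp.isNilpotent
      infer_instance
    have hcomm := shult_fix' hr hw hw2 hwr (om r R) P y
      (fun a ha b hb => ha.2.1 b hb.1) (fun u hu => hu.2.2) hPU (hUN y hyN) hyP hyw hsolP
      (by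
        by_cases h2v : v = 2 ∧ ∃ j : ℕ, w = 2 ^ j + 1
        · left
          have hab : ∀ a ∈ Q, ∀ b ∈ Q, a * b = b * a := by
            rcases hv2 with h | h | h
            · exact absurd h2v.1 h
            · exact absurd h2v.2.choose_spec (h _)
            · exact h
          -- the commutators of `P` lie in `K`, hence centralize `U`
          intro a ha b hb u hu
          have haQ : π a ∈ Q := (hPM ha).2
          have hbQ : π b ∈ Q := (hPM hb).2
          have hk : (b * a)⁻¹ * (a * b) ∈ K := by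
            rw [← hπk, map_mul, map_inv, map_mul, map_mul, hab _ haQ _ hbQ, inv_mul_cancel]
          have hkP : (b * a)⁻¹ * (a * b) ∈ P := P.mul_mem (P.inv_mem (P.mul_mem hb ha)) (P.mul_mem ha hb)
          have hcu : ((b * a)⁻¹ * (a * b)) * u = u * ((b * a)⁻¹ * (a * b)) :=
            comm_of_nilpotent hKn hvr hPp hRp hkP hk hu.1 (by
              obtain ⟨u', hu', rfl⟩ := hu.1
              exact u'.2)
          obtain ⟨k', hk'⟩ : ∃ k' : G, k' = (b * a)⁻¹ * (a * b) := ⟨_, rfl⟩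
          have h5 : a * b = (b * a) * k' := by rw [hk']; group
          rw [← hk'] at hcu
          rw [h5, mul_inv_rev, mul_assoc (b * a) k' u, hcu]
          group
        · right
          rw [hk]
          intro hd
          by_cases hv2' : v = 2
          · apply h2v
            refine ⟨hv2', ?_⟩
            rw [hv2'] at hd
            have h1 : (w - 1) ∣ 2 ^ k := (Dvd.intro_left _ (by rw [sq])).trans hd
            obtain ⟨j, -, hj⟩ := (Nat.dvd_prime_pow Nat.prime_two).1 h1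
            exact ⟨j, by have := hw.one_lt; omega⟩
          · obtain ⟨j, hj⟩ := hw.odd_of_ne_two hw2
            have h2 : 2 ∣ (w - 1) ^ 2 := by
              rw [hj]
              exact Dvd.dvd.pow ⟨j, by omega⟩ (by norm_num)
            have h3 := h2.trans hd
            obtain ⟨a, ha⟩ := (hv.odd_of_ne_two hv2').pow (n := k)
            omega)
      (by rw [hk]; exact fun h => hvw ((Nat.prime_dvd_prime_iff_eq hw hv).1 (hw.dvd_of_dvd_pow h)).symm)
      (by rw [hk]; exact fun h => hvr ((Nat.prime_dvd_prime_iff_eq hr hv).1 (hr.dvd_of_dvd_pow h)).symm) hfix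
    obtain ⟨q₀, hq₀, hq₀'⟩ := hnc
    obtain ⟨p₀, hp₀, hp₀'⟩ := hPQ q₀ hq₀
    -- the centralizer of `U` in `N`
    set C : Subgroup G := N ⊓ centralizer (om r R : Set G) with hC
    have hdC : y * p₀ * y⁻¹ * p₀⁻¹ ∈ C := by
      refine Subgroup.mem_inf.2
        ⟨N.mul_mem (N.mul_mem (N.mul_mem hyN (hPM hp₀).1) (N.inv_mem hyN)) (N.inv_mem (hPM hp₀).1), ?_⟩
      rw [mem_centralizer_iff]
      intro u hu
      exact (hcomm p₀ hp₀ u hu).symm
    have hCn : ∀ n ∈ N, ∀ z ∈ C, n * z * n⁻¹ ∈ C := by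
      intro n hn z hz
      obtain ⟨hz1, hz2⟩ := Subgroup.mem_inf.1 hz
      refine Subgroup.mem_inf.2 ⟨N.mul_mem (N.mul_mem hn hz1) (N.inv_mem hn), ?_⟩
      rw [mem_centralizer_iff] at hz2 ⊢
      intro u hu
      have h1 := hz2 _ (hUN n⁻¹ (N.inv_mem hn) u hu)
      rw [inv_inv] at h1
      calc u * (n * z * n⁻¹) = n * ((n⁻¹ * u * n) * z) * n⁻¹ := by group
        _ = n * (z * (n⁻¹ * u * n)) * n⁻¹ := by rw [h1]
        _ = n * z * n⁻¹ * u := by group
    have hTn : (C.map π).Normal := by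
      constructor
      rintro _ ⟨z, hz, rfl⟩ g
      obtain ⟨n, hn, rfl⟩ := hNs g
      exact ⟨n * z * n⁻¹, hCn n hn z hz, by rw [map_mul, map_mul, map_inv]⟩
    have hST : S ≤ C.map π := by
      have h1 : ((C.map π).subgroupOf S).Normal := inferInstance
      rcases hS.eq_bot_or_eq_top_of_normal _ h1 with h2 | h2
      · exfalso
        have hdS : π (y * p₀ * y⁻¹ * p₀⁻¹) ∈ S := by
          rw [map_mul, map_mul, map_mul, map_inv, map_inv, hyc, hp₀']
          exact S.mul_mem (hSn.conj_mem _ (hQS hq₀) _) (S.inv_mem (hQS hq₀))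
        have h3 : (⟨π (y * p₀ * y⁻¹ * p₀⁻¹), hdS⟩ : S) ∈ (C.map π).subgroupOf S := ⟨_, hdC, rfl⟩
        rw [h2, mem_bot] at h3
        have h4 : π (y * p₀ * y⁻¹ * p₀⁻¹) = 1 := congrArg Subtype.val h3
        rw [map_mul, map_mul, map_mul, map_inv, map_inv, hyc, hp₀', mul_inv_eq_one, mul_inv_eq_iff_eq_mul] at h4
        exact hq₀' h4
      · exact Subgroup.subgroupOf_eq_top.1 h2
    have hwC : w ∣ Nat.card C := by
      refine hwS.trans ((Subgroup.card_dvd_of_le hST).trans ?_)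
      exact Subgroup.card_map_dvd _ _
    obtain ⟨z, hz⟩ := exists_prime_orderOf_dvd_card' (G := C) w hwC
    have hz' : orderOf (z : G) = w := by rw [Subgroup.orderOf_coe, hz]
    refine ⟨(z : G) * u₀, order_mul hw hr hwr ?_ ?_ hu₀.2.2 hu₁ ?_⟩
    · rw [← hz']; exact pow_orderOf_eq_one _
    · intro h
      rw [h, orderOf_one] at hz'
      exact hw.one_lt.ne hz'
    · have h1 := (Subgroup.mem_inf.1 z.2).2
      rw [mem_centralizer_iff] at h1
      exact (h1 u₀ hu₀).symm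
  · push Not at hfix
    obtain ⟨u, hu, huy, hu1⟩ := hfix
    exact ⟨y * u, order_mul hw hr hwr hyw hy1 hu.2.2 hu1 huy⟩


/-- **The kernel lemma**, `w ∣ |K|` allowed. -/
theorem exists_order {G : Type u} [Group G] [Finite G] {K : Subgroup G} [K.Normal] (hKn : Group.IsNilpotent K)
    {S : Subgroup (G ⧸ K)}
    [hSn : S.Normal] (hS : IsSimpleGroup S) {s w v : ℕ} (hs : s.Prime) (hw : w.Prime) (hv : v.Prime) (hw2 : w ≠ 2)
    (hvw : v ≠ w) (hvs : v ≠ s) (hws : w ≠ s) (hsK : s ∣ Nat.card K)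
    (hwS : w ∣ Nat.card S) {Q : Subgroup (G ⧸ K)} (hQS : Q ≤ S) (hQ : IsPGroup v Q) {c : G ⧸ K} (hc : c ^ w = 1)
    (hcQ : ∀ y ∈ Q, c * y * c⁻¹ ∈ Q) (hnc : ∃ y ∈ Q, c * y ≠ y * c)
    (hv2 : v ≠ 2 ∨ (∀ k : ℕ, w ≠ 2 ^ k + 1) ∨ ∀ a ∈ Q, ∀ b ∈ Q, a * b = b * a) : ∃ x : G, orderOf x = w * s := by
  by_cases hwK : w ∣ Nat.card K
  · have := Fact.mk hs
    have := Fact.mk hw
    obtain ⟨a, ha⟩ := exists_prime_orderOf_dvd_card' (G := K) w hwK
    obtain ⟨b, hb⟩ := exists_prime_orderOf_dvd_card' (G := K) s hsK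
    have hab := comm_of_nilpotent' hKn hw hs hws (a := a) (b := b) ⟨1, by rw [pow_one, ← ha, pow_orderOf_eq_one]⟩
      ⟨1, by rw [pow_one, ← hb, pow_orderOf_eq_one]⟩
    refine ⟨(a * b : K), ?_⟩
    rw [Subgroup.orderOf_coe]
    refine order_mul hw hs hws (by rw [← ha, pow_orderOf_eq_one]) ?_ (by rw [← hb, pow_orderOf_eq_one]) ?_ hab
    · intro h
      rw [h, orderOf_one] at ha
      exact hw.one_lt.ne ha
    · intro h
      rw [h, orderOf_one] at hb
      exact hs.one_lt.ne hb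
  · exact exists_order_aux hKn hS hs hw hv hw2 hvw hvs hws hsK hwK hwS hQS hQ hc hcQ hnc hv2

/-- an element of order `w` normalizes a `v`-subgroup without centralizing it; the subgroup is abelian if `v = 2` and `w`
is a Fermat prime -/
def MovW (S : Type*) [Group S] (v w : ℕ) : Prop :=
  ∃ (P : Subgroup S) (x : S), IsPGroup v P ∧ orderOf x = w ∧ (∀ a ∈ P, x * a * x⁻¹ ∈ P) ∧ (∃ a ∈ P, x * a ≠ a * x) ∧
    (v ≠ 2 ∨ (∀ k : ℕ, w ≠ 2 ^ k + 1) ∨ ∀ a ∈ P, ∀ b ∈ P, a * b = b * a)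

theorem MovW.map {S T : Type*} [Group S] [Group T] (f : S →* T) (hf : Function.Injective f) {v w : ℕ} (h : MovW S v w) :
    MovW T v w := by
  obtain ⟨P, x, hP, hx, hn, ⟨a, ha, hne⟩, hv⟩ := h
  refine ⟨P.map f, f x, hP.map f, by rw [orderOf_injective f hf, hx], ?_, ⟨f a, ⟨a, ha, rfl⟩, ?_⟩, ?_⟩
  · rintro _ ⟨b, hb, rfl⟩
    exact ⟨x * b * x⁻¹, hn b hb, by rw [map_mul, map_mul, map_inv]⟩
  · intro h
    rw [← map_mul, ← map_mul] at h
    exact hne (hf h)
  · rcases hv with h | h | h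
    · exact Or.inl h
    · exact Or.inr (Or.inl h)
    · refine Or.inr (Or.inr ?_)
      rintro _ ⟨b, hb, rfl⟩ _ ⟨c, hc, rfl⟩
      rw [← map_mul, ← map_mul, h b hb c hc]

theorem MovW.congr {S T : Type*} [Group S] [Group T] (e : S ≃* T) {v w : ℕ} : MovW S v w ↔ MovW T v w :=
  ⟨fun h => h.map e.toMonoidHom e.injective, fun h => h.map e.symm.toMonoidHom e.symm.injective⟩

/-- `Mov` gives `MovW` except if `v = 2` and `w` is a Fermat prime -/
theorem MovW.of_mov {S : Type*} [Group S] {v w : ℕ} (h : Cfsg.Agent.H425.KStep.Mov S v w)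
    (hv : v ≠ 2 ∨ ∀ k : ℕ, w ≠ 2 ^ k + 1) : MovW S v w := by
  obtain ⟨P, x, hP, hx, hn, ha⟩ := h
  exact ⟨P, x, hP, hx, hn, ha, hv.imp_right Or.inl⟩

/-- **Primes of the radical are adjacent to the moving primes of `S`.** -/
theorem kadj {G : Type u} [Group G] [Finite G] {K : Subgroup G} [K.Normal] (hKn : Group.IsNilpotent K)
    {S : Subgroup (G ⧸ K)} [S.Normal] (hS : IsSimpleGroup S) {s w v : ℕ} (hs : s.Prime) (hw : w.Prime) (hv : v.Prime)
    (hw2 : w ≠ 2) (hvw : v ≠ w) (hvs : v ≠ s) (hws : w ≠ s) (hsK : s ∣ Nat.card K) (hM : MovW S v w) :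
    ∃ x : G, orderOf x = w * s := by
  obtain ⟨P, x, hP, hx, hn, ⟨a, ha, hne⟩, hv2⟩ := hM
  have hwS : w ∣ Nat.card S := hx ▸ orderOf_dvd_natCard x
  refine exists_order hKn hS hs hw hv hw2 hvw hvs hws hsK hwS (Q := P.map S.subtype) (c := (x : G ⧸ K)) ?_ (hP.map _) ?_ ?_
    ⟨a, ⟨a, ha, rfl⟩, fun h => hne (Subtype.ext h)⟩ ?_
  · rintro _ ⟨b, -, rfl⟩
    exact b.2
  · rw [← hx, ← Subgroup.orderOf_coe, pow_orderOf_eq_one]
  · rintro _ ⟨b, hb, rfl⟩
    exact ⟨x * b * x⁻¹, hn b hb, rfl⟩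
  · rcases hv2 with h | h | h
    · exact Or.inl h
    · exact Or.inr (Or.inl h)
    · refine Or.inr (Or.inr ?_)
      rintro _ ⟨b, hb, rfl⟩ _ ⟨c, hc, rfl⟩
      rw [← map_mul, ← map_mul, h b hb c hc]

end Cfsg.Agent.R2.Spec.F1
end
end

-- part: R2/Spec/F1/Num
section
prune_inst 0x4101055003c2200000000000092003e023000000000088001704006000b04000280400000020004000044b0801800000003100050420000000a003400000600000080c600e2d90f08880006000082400000000000020000000000000000000000000000000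
set_option linter.all false
open scoped Cfsg.Agent.FastGrp

/-!
# Congruences between cyclotomic numbers (helper23)

`HC X r l` : the primes `y` such that `X` has order `l` modulo `y` are congruent to 1 modulo `r`.

Consequences for `a = (X : ZMod r)`:

* `hc_two` : `l = 2 ^ (k + 1)`, `1 ≤ k` : `a ^ (2 ^ k)` is 0 or 1;
* `hc_three` : `l = 3 * 2 ^ (k + 1)`, `1 ≤ k` : `a ^ (2 ^ k)` is 0 or 1;
* `hc_five` : `l = 5 * 2 ^ (k + 1)`, `2 ≤ k` : `a ^ (2 ^ k)` is 0 or `a ^ (2 ^ (k + 2)) = 1`;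
* `hc_pow_three` : `l = 3 ^ (n + 1)` : `w ^ 2 + w` is 0 or 2, `w = a ^ 3 ^ n`;
* `hc_two_pow_three` : `l = 2 * 3 ^ (n + 1)` : `w ^ 2 - w` is 0 or 2, `w = a ^ 3 ^ n`;
* `hc_5`, `hc_10`.
-/

set_option autoImplicit false
set_option linter.unusedSectionVars false

namespace Cfsg.Agent.R2.Spec.F1

/-- the primes modulo which `X` has order `l` are congruent to 1 modulo `r` -/
def HC (X : ℤ) (r l : ℕ) : Prop := ∀ y : ℕ, y.Prime → orderOf (X : ZMod y) = l → y % r = 1

theorem cast_one_of_mod {y r : ℕ} (hr : 1 < r) (h : y % r = 1) : ((y : ℕ) : ZMod r) = 1 := by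
  have h1 : y % r = 1 % r := by rw [h, Nat.mod_eq_of_lt hr]
  have h2 := (ZMod.natCast_eq_natCast_iff' y 1 r).2 h1
  rwa [Nat.cast_one] at h2

theorem cast_eq_one {N r : ℕ} (hr : 1 < r) (hN : N ≠ 0) (h : ∀ y : ℕ, y.Prime → y ∣ N → y % r = 1) :
    ((N : ℕ) : ZMod r) = 1 := by
  induction N using Nat.recOnMul with
  | zero => exact absurd rfl hN
  | one => exact Nat.cast_one
  | prime p hp => exact cast_one_of_mod hr (h p hp dvd_rfl)
  | mul a b ha hb =>
    have ha0 : a ≠ 0 := fun h0 => hN (by rw [h0, zero_mul])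
    have hb0 : b ≠ 0 := fun h0 => hN (by rw [h0, mul_zero])
    rw [Nat.cast_mul, ha ha0 fun y hy hd => h y hy (hd.mul_right _), hb hb0 fun y hy hd => h y hy (hd.mul_left _),
      one_mul]

/-- one prime factor `s`, not its square -/
theorem cast_eq_of {N r s : ℕ} (hr : 1 < r) (hs : s.Prime) (hN : N ≠ 0) (hs2 : ¬ s ^ 2 ∣ N)
    (h : ∀ y : ℕ, y.Prime → y ≠ s → y ∣ N → y % r = 1) : ((N : ℕ) : ZMod r) = 1 ∨ ((N : ℕ) : ZMod r) = s := by
  by_cases hd : s ∣ N
  · obtain ⟨M, rfl⟩ := hd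
    have hM : M ≠ 0 := fun h0 => hN (by rw [h0, mul_zero])
    have hsM : ¬ s ∣ M := by
      rintro ⟨c, rfl⟩
      exact hs2 ⟨c, by ring⟩
    right
    rw [Nat.cast_mul, cast_eq_one hr hM (fun y hy hyM => h y hy (by rintro rfl; exact hsM hyM) (hyM.mul_left _)), mul_one]
  · left
    exact cast_eq_one hr hN fun y hy hyN => h y hy (by rintro rfl; exact hd hyN) hyN

variable {X : ℤ} {r : ℕ}

/-- the value as a natural number -/
theorem exists_sq (X : ℤ) {k : ℕ} (hk : 1 ≤ k) : ∃ s : ℕ, X ^ 2 ^ k = ((s ^ 2 : ℕ) : ℤ) ∧ (2 ≤ k → ∃ t, s = t ^ 2) := by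
  obtain ⟨j, rfl⟩ : ∃ j, k = j + 1 := ⟨k - 1, by omega⟩
  refine ⟨(X.natAbs) ^ 2 ^ j, ?_, ?_⟩
  · push_cast
    rw [← pow_mul, ← pow_succ, pow_succ' 2 j, pow_mul, pow_mul, sq_abs]
  · intro h
    obtain ⟨i, rfl⟩ : ∃ i, j = i + 1 := ⟨j - 1, by omega⟩
    exact ⟨X.natAbs ^ 2 ^ i, by rw [← pow_mul, ← pow_succ]⟩

theorem z2a : ∀ a : ZMod 2, a ^ 4 - a ^ 2 + 1 ≠ 0 := by decide

theorem z3a : ∀ a : ZMod 3, a ^ 4 - a ^ 2 + 1 ≠ 0 := by decide

theorem z2b : ∀ a : ZMod 2, a ^ 16 - a ^ 12 + a ^ 8 - a ^ 4 + 1 ≠ 0 := by decide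

theorem z5b : ∀ a : ZMod 5, a ^ 16 - a ^ 12 + a ^ 8 - a ^ 4 + 1 ≠ 0 := by decide

theorem hc_two (hr : 1 < r) {k : ℕ} (hk : 1 ≤ k) (h : HC X r (2 ^ (k + 1))) :
    (X : ZMod r) ^ 2 ^ k = 0 ∨ (X : ZMod r) ^ 2 ^ k = 1 := by
  obtain ⟨s, hs, -⟩ := exists_sq X hk
  have hcast : ∀ m : ℕ, (X : ZMod m) ^ 2 ^ k = ((s ^ 2 : ℕ) : ZMod m) := fun m => by
    have h1 := congrArg (fun z : ℤ => (z : ZMod m)) hs
    push_cast at h1 ⊢
    exact h1
  have h1 : ((s ^ 2 + 1 : ℕ) : ZMod r) = 1 ∨ ((s ^ 2 + 1 : ℕ) : ZMod r) = (2 : ℕ) := by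
    refine cast_eq_of hr Nat.prime_two (by positivity) ?_ ?_
    · intro hd
      have h2 : s % 4 = 0 ∨ s % 4 = 1 ∨ s % 4 = 2 ∨ s % 4 = 3 := by omega
      have h3 : (s ^ 2 + 1) % 4 = 0 := Nat.mod_eq_zero_of_dvd (by simpa using hd)
      rcases h2 with h | h | h | h <;> simp [pow_two, Nat.add_mod, Nat.mul_mod, h] at h3
    · intro y hy hy2 hd
      have := Fact.mk hy
      refine h y hy (orderOf_eq_prime_pow ?_ ?_)
      · rw [hcast y]
        intro h2
        rw [← ZMod.natCast_eq_zero_iff] at hd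
        push_cast at hd h2
        rw [h2] at hd
        have h3 : ((2 : ℕ) : ZMod y) = 0 := by push_cast; linear_combination hd
        rw [ZMod.natCast_eq_zero_iff] at h3
        exact hy2 ((Nat.prime_dvd_prime_iff_eq hy Nat.prime_two).1 h3)
      · rw [pow_succ, pow_mul, hcast y]
        rw [← ZMod.natCast_eq_zero_iff] at hd
        push_cast at hd ⊢
        linear_combination ((s : ZMod y) ^ 2 - 1) * hd
  rw [hcast r]
  push_cast at h1 ⊢
  rcases h1 with h1 | h1
  · left; linear_combination h1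
  · right; linear_combination h1

theorem hc_three (hr : 1 < r) {k : ℕ} (hk : 1 ≤ k) (h : HC X r (3 * 2 ^ (k + 1))) :
    (X : ZMod r) ^ 2 ^ k * ((X : ZMod r) ^ 2 ^ k - 1) = 0 := by
  obtain ⟨s, hs, -⟩ := exists_sq X hk
  have hcast : ∀ m : ℕ, (X : ZMod m) ^ 2 ^ k = ((s ^ 2 : ℕ) : ZMod m) := fun m => by
    have h1 := congrArg (fun z : ℤ => (z : ZMod m)) hs
    push_cast at h1 ⊢
    exact h1
  obtain ⟨N, hN⟩ : ∃ N : ℕ, N + s ^ 2 = s ^ 4 + 1 := by
    refine ⟨s ^ 4 + 1 - s ^ 2, ?_⟩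
    have : s ^ 2 ≤ s ^ 4 + 1 := by
      rcases Nat.eq_zero_or_pos s with h0 | h0
      · rw [h0]; norm_num
      · have := Nat.pow_le_pow_right h0 (show 2 ≤ 4 by norm_num)
        omega
    omega
  have hNc : ∀ m : ℕ, (N : ZMod m) = (s : ZMod m) ^ 4 - (s : ZMod m) ^ 2 + 1 := fun m => by
    have h1 := congrArg (fun z : ℕ => (z : ZMod m)) hN
    push_cast at h1
    linear_combination h1
  have h1 : (N : ZMod r) = 1 := by
    have hN0 : N ≠ 0 := by
      rintro rfl
      rw [zero_add] at hN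
      rcases Nat.lt_or_ge s 2 with h2 | h2
      · interval_cases s <;> omega
      · have : s ^ 2 < s ^ 4 := Nat.pow_lt_pow_right (by omega) (by norm_num)
        omega
    refine cast_eq_one hr hN0 ?_
    intro y hy hd
    have := Fact.mk hy
    have hy0 : (s : ZMod y) ^ 4 - (s : ZMod y) ^ 2 + 1 = 0 := by
      rw [← hNc y]
      exact (ZMod.natCast_eq_zero_iff _ _).2 hd
    have hy2 : y ≠ 2 := by
      rintro rfl
      exact z2a _ hy0
    have hy3 : y ≠ 3 := by
      rintro rfl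
      exact z3a _ hy0
    have hy2' : (2 : ZMod y) ≠ 0 := by
      intro h2
      have h3 : ((2 : ℕ) : ZMod y) = 0 := by push_cast; exact h2
      rw [ZMod.natCast_eq_zero_iff] at h3
      exact hy2 ((Nat.prime_dvd_prime_iff_eq hy Nat.prime_two).1 h3)
    have hy3' : (3 : ZMod y) ≠ 0 := by
      intro h2
      have h3 : ((3 : ℕ) : ZMod y) = 0 := by push_cast; exact h2
      rw [ZMod.natCast_eq_zero_iff] at h3
      exact hy3 ((Nat.prime_dvd_prime_iff_eq hy Nat.prime_three).1 h3)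
    obtain ⟨z, hz⟩ : ∃ z : ZMod y, z = (s : ZMod y) ^ 2 := ⟨_, rfl⟩
    have hz0 : z ^ 2 - z + 1 = 0 := by rw [hz]; linear_combination hy0
    have hXz : (X : ZMod y) ^ 2 ^ k = z := by rw [hcast y, hz]; push_cast; rfl
    refine h y hy (orderOf_eq_of_pow_and_pow_div_prime (by positivity) ?_ ?_)
    · rw [pow_succ, show 3 * (2 ^ k * 2) = 2 ^ k * 6 by ring, pow_mul, hXz]
      linear_combination (z ^ 4 + z ^ 3 - z - 1) * hz0
    · intro p hp hpd
      have hp' : p = 2 ∨ p = 3 := by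
        rcases hp.dvd_mul.1 hpd with h2 | h2
        · right; exact (Nat.prime_dvd_prime_iff_eq hp Nat.prime_three).1 h2
        · left; exact (Nat.prime_dvd_prime_iff_eq hp Nat.prime_two).1 (hp.dvd_of_dvd_pow h2)
      rcases hp' with rfl | rfl
      · rw [show 3 * 2 ^ (k + 1) / 2 = 2 ^ k * 3 by rw [pow_succ]; omega, pow_mul, hXz]
        intro h2
        apply hy2'
        linear_combination (z + 1) * hz0 - h2
      · rw [show 3 * 2 ^ (k + 1) / 3 = 2 ^ k * 2 by rw [pow_succ]; omega, pow_mul, hXz]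
        intro h2
        -- `z = 2`, `3 = 0`
        have h3 : z = 2 := by linear_combination h2 - hz0
        apply hy3'
        rw [h3] at hz0
        linear_combination hz0
  rw [hcast r]
  rw [hNc r] at h1
  push_cast
  linear_combination h1

theorem hc_five (hr : 1 < r) {k : ℕ} (hk : 2 ≤ k) (h : HC X r (5 * 2 ^ (k + 1))) :
    (X : ZMod r) ^ 2 ^ k * ((X : ZMod r) ^ 2 ^ k - 1) * (((X : ZMod r) ^ 2 ^ k) ^ 2 + 1) = 0 := by
  obtain ⟨s, hs, ht⟩ := exists_sq X (show 1 ≤ k by omega)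
  obtain ⟨t, rfl⟩ := ht hk
  have hcast : ∀ m : ℕ, (X : ZMod m) ^ 2 ^ k = ((t ^ 4 : ℕ) : ZMod m) := fun m => by
    have h1 := congrArg (fun z : ℤ => (z : ZMod m)) hs
    push_cast at h1 ⊢
    rw [h1]
    ring
  obtain ⟨N, hN⟩ : ∃ N : ℕ, N + (t ^ 12 + t ^ 4) = t ^ 16 + t ^ 8 + 1 := by
    refine ⟨t ^ 16 + t ^ 8 + 1 - (t ^ 12 + t ^ 4), ?_⟩
    have h1 : t ^ 12 ≤ t ^ 16 := by
      rcases Nat.eq_zero_or_pos t with h0 | h0
      · rw [h0]; norm_num
      · exact Nat.pow_le_pow_right h0 (by norm_num)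
    have h2 : t ^ 4 ≤ t ^ 8 := by
      rcases Nat.eq_zero_or_pos t with h0 | h0
      · rw [h0]; norm_num
      · exact Nat.pow_le_pow_right h0 (by norm_num)
    omega
  have hNc : ∀ m : ℕ, (N : ZMod m) = (t : ZMod m) ^ 16 - (t : ZMod m) ^ 12 + (t : ZMod m) ^ 8 - (t : ZMod m) ^ 4 + 1 :=
    fun m => by
    have h1 := congrArg (fun z : ℕ => (z : ZMod m)) hN
    push_cast at h1
    linear_combination h1
  have h1 : (N : ZMod r) = 1 := by
    have hN0 : N ≠ 0 := by
      rintro rfl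
      rw [zero_add] at hN
      rcases Nat.lt_or_ge t 2 with h2 | h2
      · interval_cases t <;> omega
      · have h3 : t ^ 12 < t ^ 16 := Nat.pow_lt_pow_right (by omega) (by norm_num)
        have h4 : t ^ 4 < t ^ 8 := Nat.pow_lt_pow_right (by omega) (by norm_num)
        omega
    refine cast_eq_one hr hN0 ?_
    intro y hy hd
    have := Fact.mk hy
    have hy0 : (t : ZMod y) ^ 16 - (t : ZMod y) ^ 12 + (t : ZMod y) ^ 8 - (t : ZMod y) ^ 4 + 1 = 0 := by
      rw [← hNc y]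
      exact (ZMod.natCast_eq_zero_iff _ _).2 hd
    have hy2 : y ≠ 2 := by
      rintro rfl
      exact z2b _ hy0
    have hy5 : y ≠ 5 := by
      rintro rfl
      exact z5b _ hy0
    have hy2' : (2 : ZMod y) ≠ 0 := by
      intro h2
      have h3 : ((2 : ℕ) : ZMod y) = 0 := by push_cast; exact h2
      rw [ZMod.natCast_eq_zero_iff] at h3
      exact hy2 ((Nat.prime_dvd_prime_iff_eq hy Nat.prime_two).1 h3)
    have hy5' : (5 : ZMod y) ≠ 0 := by
      intro h2
      have h3 : ((5 : ℕ) : ZMod y) = 0 := by push_cast; exact h2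
      rw [ZMod.natCast_eq_zero_iff] at h3
      exact hy5 ((Nat.prime_dvd_prime_iff_eq hy Nat.prime_five).1 h3)
    obtain ⟨z, hz⟩ : ∃ z : ZMod y, z = (t : ZMod y) ^ 4 := ⟨_, rfl⟩
    have hz0 : z ^ 4 - z ^ 3 + z ^ 2 - z + 1 = 0 := by rw [hz]; linear_combination hy0
    have hXz : (X : ZMod y) ^ 2 ^ k = z := by rw [hcast y, hz]; push_cast; rfl
    refine h y hy (orderOf_eq_of_pow_and_pow_div_prime (by positivity) ?_ ?_)
    · rw [pow_succ, show 5 * (2 ^ k * 2) = 2 ^ k * 10 by ring, pow_mul, hXz]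
      linear_combination (z ^ 5 - 1) * (z + 1) * hz0
    · intro p hp hpd
      have hp' : p = 2 ∨ p = 5 := by
        rcases hp.dvd_mul.1 hpd with h2 | h2
        · right; exact (Nat.prime_dvd_prime_iff_eq hp Nat.prime_five).1 h2
        · left; exact (Nat.prime_dvd_prime_iff_eq hp Nat.prime_two).1 (hp.dvd_of_dvd_pow h2)
      rcases hp' with rfl | rfl
      · rw [show 5 * 2 ^ (k + 1) / 2 = 2 ^ k * 5 by rw [pow_succ]; omega, pow_mul, hXz]
        intro h2
        apply hy2'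
        linear_combination (z + 1) * hz0 - h2
      · rw [show 5 * 2 ^ (k + 1) / 5 = 2 ^ k * 2 by rw [pow_succ]; omega, pow_mul, hXz]
        intro h2
        -- `2 z = 3`, so `9 = 4`
        have h3 : 2 * z = 3 := by linear_combination -hz0 + (z ^ 2 - z + 2) * h2
        apply hy5'
        linear_combination -(2 * z + 3) * h3 + 4 * h2
  rw [hcast r]
  rw [hNc r] at h1
  push_cast
  linear_combination h1

/-- `w ^ 2 + w + 1` as a natural number -/
theorem exists_tri (w : ℤ) : ∃ N : ℕ, (N : ℤ) = w ^ 2 + w + 1 ∧ N ≠ 0 ∧ ¬ 3 ^ 2 ∣ N ∧ ¬ 2 ∣ N := by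
  have hpos : 0 < w ^ 2 + w + 1 := by nlinarith [sq_nonneg (2 * w + 1)]
  refine ⟨(w ^ 2 + w + 1).natAbs, by rw [Int.natAbs_of_nonneg hpos.le], by omega, ?_, ?_⟩
  · intro hd
    have h1 : ((3 ^ 2 : ℕ) : ℤ) ∣ w ^ 2 + w + 1 := by
      rw [← Int.natAbs_of_nonneg hpos.le]
      exact Int.natCast_dvd_natCast.2 hd
    have h2 : ((w : ZMod 9)) ^ 2 + (w : ZMod 9) + 1 = 0 := by
      have h3 := (ZMod.intCast_zmod_eq_zero_iff_dvd (w ^ 2 + w + 1) 9).2 (by simpa using h1)
      push_cast at h3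
      exact h3
    have : ∀ a : ZMod 9, a ^ 2 + a + 1 ≠ 0 := by decide
    exact this _ h2
  · intro hd
    have h1 : ((2 : ℕ) : ℤ) ∣ w ^ 2 + w + 1 := by
      rw [← Int.natAbs_of_nonneg hpos.le]
      exact Int.natCast_dvd_natCast.2 hd
    have h2 : ((w : ZMod 2)) ^ 2 + (w : ZMod 2) + 1 = 0 := by
      have h3 := (ZMod.intCast_zmod_eq_zero_iff_dvd (w ^ 2 + w + 1) 2).2 (by simpa using h1)
      push_cast at h3
      exact h3
    have : ∀ a : ZMod 2, a ^ 2 + a + 1 ≠ 0 := by decide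
    exact this _ h2

theorem ne_zero_of {y s : ℕ} (hy : y.Prime) (hs : s.Prime) (h : y ≠ s) : ((s : ℕ) : ZMod y) ≠ 0 := by
  intro h2
  rw [ZMod.natCast_eq_zero_iff] at h2
  exact h ((Nat.prime_dvd_prime_iff_eq hy hs).1 h2)

theorem hc_pow_three (hr : 1 < r) {n : ℕ} (h : HC X r (3 ^ (n + 1))) :
    ((X : ZMod r) ^ 3 ^ n) ^ 2 + (X : ZMod r) ^ 3 ^ n = 0 ∨ ((X : ZMod r) ^ 3 ^ n) ^ 2 + (X : ZMod r) ^ 3 ^ n = 2 := by
  obtain ⟨N, hN, hN0, hN9, hN2⟩ := exists_tri (X ^ 3 ^ n)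
  have hNc : ∀ m : ℕ, (N : ZMod m) = ((X : ZMod m) ^ 3 ^ n) ^ 2 + (X : ZMod m) ^ 3 ^ n + 1 := fun m => by
    have h1 := congrArg (fun z : ℤ => (z : ZMod m)) hN
    push_cast at h1
    exact h1
  have h1 := cast_eq_of hr Nat.prime_three hN0 hN9 (by
    intro y hy hy3 hd
    have := Fact.mk hy
    have h3 := ne_zero_of hy Nat.prime_three hy3
    push_cast at h3
    have h0 := (ZMod.natCast_eq_zero_iff N y).2 hd
    rw [hNc y] at h0
    refine h y hy (orderOf_eq_prime_pow ?_ ?_)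
    · intro h2
      rw [h2] at h0
      apply h3
      linear_combination h0
    · rw [pow_succ, pow_mul]
      linear_combination ((X : ZMod y) ^ 3 ^ n - 1) * h0)
  rw [hNc r] at h1
  push_cast at h1
  rcases h1 with h1 | h1
  · left; linear_combination h1
  · right; linear_combination h1

theorem hc_two_pow_three (hr : 1 < r) {n : ℕ} (h : HC X r (2 * 3 ^ (n + 1))) :
    ((X : ZMod r) ^ 3 ^ n) ^ 2 - (X : ZMod r) ^ 3 ^ n = 0 ∨ ((X : ZMod r) ^ 3 ^ n) ^ 2 - (X : ZMod r) ^ 3 ^ n = 2 := by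
  obtain ⟨N, hN, hN0, hN9, hN2⟩ := exists_tri (-(X ^ 3 ^ n))
  have hNc : ∀ m : ℕ, (N : ZMod m) = ((X : ZMod m) ^ 3 ^ n) ^ 2 - (X : ZMod m) ^ 3 ^ n + 1 := fun m => by
    have h1 := congrArg (fun z : ℤ => (z : ZMod m)) hN
    push_cast at h1
    rw [h1]
    ring
  have h1 := cast_eq_of hr Nat.prime_three hN0 hN9 (by
    intro y hy hy3 hd
    have := Fact.mk hy
    have h3 := ne_zero_of hy Nat.prime_three hy3
    have hy2 : y ≠ 2 := by
      rintro rfl
      exact hN2 hd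
    have h2' := ne_zero_of hy Nat.prime_two hy2
    push_cast at h3 h2'
    have h0 := (ZMod.natCast_eq_zero_iff N y).2 hd
    rw [hNc y] at h0
    obtain ⟨z, hz⟩ : ∃ z : ZMod y, z = (X : ZMod y) ^ 3 ^ n := ⟨_, rfl⟩
    rw [← hz] at h0
    refine h y hy (orderOf_eq_of_pow_and_pow_div_prime (by positivity) ?_ ?_)
    · rw [pow_succ, show 2 * (3 ^ n * 3) = 3 ^ n * 6 by ring, pow_mul, ← hz]
      linear_combination (z ^ 4 + z ^ 3 - z - 1) * h0
    · intro p hp hpd
      have hp' : p = 2 ∨ p = 3 := by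
        rcases hp.dvd_mul.1 hpd with h2 | h2
        · left; exact (Nat.prime_dvd_prime_iff_eq hp Nat.prime_two).1 h2
        · right; exact (Nat.prime_dvd_prime_iff_eq hp Nat.prime_three).1 (hp.dvd_of_dvd_pow h2)
      rcases hp' with rfl | rfl
      · rw [show 2 * 3 ^ (n + 1) / 2 = 3 ^ n * 3 by rw [pow_succ]; omega, pow_mul, ← hz]
        intro h2
        apply h2'
        linear_combination (z + 1) * h0 - h2
      · rw [show 2 * 3 ^ (n + 1) / 3 = 3 ^ n * 2 by rw [pow_succ]; omega, pow_mul, ← hz]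
        intro h2
        have h4 : z = 2 := by linear_combination h2 - h0
        apply h3
        rw [h4] at h0
        linear_combination h0)
  rw [hNc r] at h1
  push_cast at h1
  rcases h1 with h1 | h1
  · left; linear_combination h1
  · right; linear_combination h1

/-- `w ^ 4 + w ^ 3 + w ^ 2 + w + 1` as a natural number -/
theorem exists_quint (w : ℤ) : ∃ N : ℕ, (N : ℤ) = w ^ 4 + w ^ 3 + w ^ 2 + w + 1 ∧ N ≠ 0 ∧ ¬ 5 ^ 2 ∣ N ∧ ¬ 2 ∣ N := by
  have hpos : 0 < w ^ 4 + w ^ 3 + w ^ 2 + w + 1 := by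
    nlinarith [sq_nonneg (2 * w ^ 2 + w), sq_nonneg (w + 1), sq_nonneg w, sq_nonneg (w + 2)]
  refine ⟨(w ^ 4 + w ^ 3 + w ^ 2 + w + 1).natAbs, by rw [Int.natAbs_of_nonneg hpos.le], by omega, ?_, ?_⟩
  · intro hd
    have h1 : ((5 ^ 2 : ℕ) : ℤ) ∣ w ^ 4 + w ^ 3 + w ^ 2 + w + 1 := by
      rw [← Int.natAbs_of_nonneg hpos.le]
      exact Int.natCast_dvd_natCast.2 hd
    have h2 : ((w : ZMod 25)) ^ 4 + (w : ZMod 25) ^ 3 + (w : ZMod 25) ^ 2 + (w : ZMod 25) + 1 = 0 := by
      have h3 := (ZMod.intCast_zmod_eq_zero_iff_dvd (w ^ 4 + w ^ 3 + w ^ 2 + w + 1) 25).2 (by simpa using h1)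
      push_cast at h3
      exact h3
    have : ∀ a : ZMod 25, a ^ 4 + a ^ 3 + a ^ 2 + a + 1 ≠ 0 := by decide
    exact this _ h2
  · intro hd
    have h1 : ((2 : ℕ) : ℤ) ∣ w ^ 4 + w ^ 3 + w ^ 2 + w + 1 := by
      rw [← Int.natAbs_of_nonneg hpos.le]
      exact Int.natCast_dvd_natCast.2 hd
    have h2 : ((w : ZMod 2)) ^ 4 + (w : ZMod 2) ^ 3 + (w : ZMod 2) ^ 2 + (w : ZMod 2) + 1 = 0 := by
      have h3 := (ZMod.intCast_zmod_eq_zero_iff_dvd (w ^ 4 + w ^ 3 + w ^ 2 + w + 1) 2).2 (by simpa using h1)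
      push_cast at h3
      exact h3
    have : ∀ a : ZMod 2, a ^ 4 + a ^ 3 + a ^ 2 + a + 1 ≠ 0 := by decide
    exact this _ h2

theorem hc_5 (hr : 1 < r) (h : HC X r 5) :
    (X : ZMod r) ^ 4 + (X : ZMod r) ^ 3 + (X : ZMod r) ^ 2 + X = 0 ∨
      (X : ZMod r) ^ 4 + (X : ZMod r) ^ 3 + (X : ZMod r) ^ 2 + X = 4 := by
  obtain ⟨N, hN, hN0, hN9, hN2⟩ := exists_quint X
  have hNc : ∀ m : ℕ, (N : ZMod m) = (X : ZMod m) ^ 4 + (X : ZMod m) ^ 3 + (X : ZMod m) ^ 2 + X + 1 := fun m => by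
    have h1 := congrArg (fun z : ℤ => (z : ZMod m)) hN
    push_cast at h1
    exact h1
  have h1 := cast_eq_of hr Nat.prime_five hN0 hN9 (by
    intro y hy hy5 hd
    have := Fact.mk hy
    have h3 := ne_zero_of hy Nat.prime_five hy5
    push_cast at h3
    have h0 := (ZMod.natCast_eq_zero_iff N y).2 hd
    rw [hNc y] at h0
    have := Fact.mk Nat.prime_five
    refine h y hy (orderOf_eq_prime ?_ ?_)
    · linear_combination ((X : ZMod y) - 1) * h0
    · intro h2
      rw [h2] at h0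
      apply h3
      linear_combination h0)
  rw [hNc r] at h1
  push_cast at h1
  rcases h1 with h1 | h1
  · left; linear_combination h1
  · right; linear_combination h1

theorem hc_10 (hr : 1 < r) (h : HC X r 10) :
    (X : ZMod r) ^ 4 - (X : ZMod r) ^ 3 + (X : ZMod r) ^ 2 - X = 0 ∨
      (X : ZMod r) ^ 4 - (X : ZMod r) ^ 3 + (X : ZMod r) ^ 2 - X = 4 := by
  obtain ⟨N, hN, hN0, hN9, hN2⟩ := exists_quint (-X)
  have hNc : ∀ m : ℕ, (N : ZMod m) = (X : ZMod m) ^ 4 - (X : ZMod m) ^ 3 + (X : ZMod m) ^ 2 - X + 1 := fun m => by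
    have h1 := congrArg (fun z : ℤ => (z : ZMod m)) hN
    push_cast at h1
    rw [h1]
    ring
  have h1 := cast_eq_of hr Nat.prime_five hN0 hN9 (by
    intro y hy hy5 hd
    have := Fact.mk hy
    have h3 := ne_zero_of hy Nat.prime_five hy5
    have hy2 : y ≠ 2 := by
      rintro rfl
      exact hN2 hd
    have h2' := ne_zero_of hy Nat.prime_two hy2
    push_cast at h3 h2'
    have h0 := (ZMod.natCast_eq_zero_iff N y).2 hd
    rw [hNc y] at h0
    obtain ⟨z, hz⟩ : ∃ z : ZMod y, z = (X : ZMod y) := ⟨_, rfl⟩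
    rw [← hz] at h0
    refine h y hy ?_
    rw [← hz]
    refine orderOf_eq_of_pow_and_pow_div_prime (by norm_num) ?_ ?_
    · linear_combination (z ^ 5 - 1) * (z + 1) * h0
    · intro p hp hpd
      have hp' : p = 2 ∨ p = 5 := by
        have h2 : p ∣ 2 * 5 := hpd
        rcases hp.dvd_mul.1 h2 with h2 | h2
        · left; exact (Nat.prime_dvd_prime_iff_eq hp Nat.prime_two).1 h2
        · right; exact (Nat.prime_dvd_prime_iff_eq hp Nat.prime_five).1 h2
      rcases hp' with rfl | rfl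
      · rw [show 10 / 2 = 5 by norm_num]
        intro h2
        apply h2'
        linear_combination (z + 1) * h0 - h2
      · rw [show 10 / 5 = 2 by norm_num]
        intro h2
        have h4 : 2 * z = 3 := by linear_combination -h0 + (z ^ 2 - z + 2) * h2
        apply h3
        linear_combination -(2 * z + 3) * h4 + 4 * h2)
  rw [hNc r] at h1
  push_cast at h1
  rcases h1 with h1 | h1
  · left; linear_combination h1
  · right; linear_combination h1

end Cfsg.Agent.R2.Spec.F1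
end

-- part: R2/Spec/X1/E6/Sit
section
prune_inst 0x10106504382200000000000090002000100000000000000170400400000400008040080002000502000400000000000002100050400000000a000000000400000000800080080100000000000082400000000000020000000000000000000000000000000
set_option linter.all false
open scoped Cfsg.Agent.FastGrp

/-!
# Identification of `E₆(q)` and `²E₆(q)`: the situation (helper414, statements S3480, S3481)

`D : Dat` : the numbers. `ε = 1` (`E₆(q)`) or `ε = -1` (`²E₆(q)`), `d = (3, q - ε)`, `n = (q⁶ + εq³ + 1)/d`,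
`m = q⁴ - q² + 1`, `e = (q² + εq + 1) m`.
`Sit D S` : what is known about the simple section `S` of a group with the spectrum of `L = E₆^ε(q)`:
* `on`, `iso` : `n` is an element order, isolated;
* `om`, `tor` : `m` is an element order, the element orders meeting `m` divide `e` (odd);
* `o8`, `tor8` : for `q` even the same with `q⁴ + 1`, `(q⁴ + 1)(q² - 1)`;
* `prm` : the primes of `|S|` are primes of `|L|`.
-/

set_option autoImplicit false
set_option linter.unusedSectionVars false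

namespace Cfsg.Agent.R2.Spec.X1.E6

open Cfsg.Agent.H129.CycT Cfsg.Agent.H564.NearTwo

/-- the numbers -/
structure Dat where
  /-- the sign -/
  ε : ℤ
  /-- the field -/
  q : ℕ
  /-- `(3, q - ε)` -/
  d : ℕ
  /-- the isolated number -/
  n : ℕ
  /-- `Φ₁₂(q)` -/
  m : ℕ
  /-- the order of the torus -/
  e : ℕ
  pp : IsPrimePow q
  eps : ε = 1 ∨ ε = -1
  hd : d = 1 ∨ d = 3
  hd3 : d = 3 ↔ (3 : ℤ) ∣ q - ε
  hn : (d : ℤ) * n = (q : ℤ) ^ 6 + ε * q ^ 3 + 1
  hm : (m : ℤ) = (q : ℤ) ^ 4 - q ^ 2 + 1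
  he : (e : ℤ) = ((q : ℤ) ^ 2 + ε * q + 1) * m

/-- the situation -/
structure Sit (D : Dat) (S : Type*) [Group S] : Prop where
  on : ∃ x : S, orderOf x = D.n
  iso : ∀ (x : S) (s : ℕ), s.Prime → s ∣ D.n → s ∣ orderOf x → orderOf x ∣ D.n
  om : ∃ x : S, orderOf x = D.m
  tor : ∀ (x : S) (s : ℕ), s.Prime → s ∣ D.m → s ∣ orderOf x → orderOf x ∣ D.e
  o8 : 2 ∣ D.q → ∃ x : S, orderOf x = D.q ^ 4 + 1
  tor8 : 2 ∣ D.q → ∀ (x : S) (s : ℕ), s.Prime → s ∣ D.q ^ 4 + 1 → s ∣ orderOf x →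
    orderOf x ∣ (D.q ^ 4 + 1) * (D.q ^ 2 - 1)
  prm : ∀ r : ℕ, r.Prime → r ∣ Nat.card S →
    (r : ℤ) ∣ (D.q : ℤ) * (D.q ^ 5 - D.ε) * (D.q ^ 8 - 1) * (D.q ^ 9 - D.ε) * (D.q ^ 12 - 1)

/-! ### numbers -/

namespace Dat

variable (D : Dat)

theorem two_le : 2 ≤ D.q := D.pp.two_le

theorem two_le' : (2 : ℤ) ≤ D.q := by exact_mod_cast D.two_le

theorem eps_sq : D.ε * D.ε = 1 := by rcases D.eps with h | h <;> rw [h] <;> norm_num

theorem eps_abs : |D.ε| = 1 := by rcases D.eps with h | h <;> rw [h] <;> norm_num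

theorem d_pos : 0 < D.d := by rcases D.hd with h | h <;> omega

theorem m_add : D.m + D.q ^ 2 = D.q ^ 4 + 1 := by
  have h := D.hm
  have : (D.m : ℤ) + D.q ^ 2 = D.q ^ 4 + 1 := by rw [h]; ring
  exact_mod_cast this

theorem m_ge : 13 ≤ D.m := by
  have h1 := D.m_add
  have h2 : 4 ≤ D.q ^ 2 := by nlinarith only [D.two_le]
  have h3 : D.q ^ 4 = D.q ^ 2 * D.q ^ 2 := by ring
  nlinarith only [h1, h2]

theorem m_odd : ¬ 2 ∣ D.m := by
  intro h
  have h1 := D.m_add
  have h2 : D.q % 2 = 0 ∨ D.q % 2 = 1 := by omega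
  have h4 : (D.m + D.q ^ 2) % 2 = (D.q ^ 4 + 1) % 2 := by rw [h1]
  have h5 : D.q ^ 2 % 2 = ((D.q % 2) ^ 2) % 2 := by rw [Nat.pow_mod]
  have h6 : D.q ^ 4 % 2 = ((D.q % 2) ^ 4) % 2 := by rw [Nat.pow_mod]
  rcases h2 with h2 | h2 <;> rw [h2] at h5 h6 <;> omega

theorem n_odd : ¬ 2 ∣ D.n := by
  rintro ⟨k, hk⟩
  have h1 : Even ((D.q : ℤ) ^ 6 + D.ε * D.q ^ 3 + 1) := by
    rw [← D.hn, hk]
    push_cast
    exact ⟨D.d * k, by ring⟩
  have h2 : Even ((D.q : ℤ) ^ 3 * ((D.q : ℤ) ^ 3 + D.ε)) := by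
    rcases Int.even_or_odd (D.q : ℤ) with h | h
    · exact (h.pow_of_ne_zero (by norm_num)).mul_right _
    · apply Even.mul_left
      have h3 : Odd D.ε := by rcases D.eps with h | h <;> rw [h] <;> decide
      exact (h.pow).add_odd h3
  have h3 : Odd ((D.q : ℤ) ^ 6 + D.ε * D.q ^ 3 + 1) := by
    have : (D.q : ℤ) ^ 6 + D.ε * D.q ^ 3 + 1 = (D.q : ℤ) ^ 3 * ((D.q : ℤ) ^ 3 + D.ε) + 1 := by ring
    rw [this]
    exact h2.add_one
  exact (Int.not_even_iff_odd.2 h3) h1

/-- `d n = ε q³` modulo `m` -/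
theorem congr_n : (D.m : ℤ) ∣ D.d * D.n - D.ε * D.q ^ 3 := by
  rw [D.hn, D.hm]
  exact ⟨(D.q : ℤ) ^ 2 + 1, by ring⟩

/-- **The kill.** `m ∣ A n + B` with `|A| q³ + |B| d < m` is impossible unless `A ε q³ + B d = 0`. -/
theorem kill {A B : ℤ} (h : (D.m : ℤ) ∣ A * D.n + B) (hlt : |A| * D.q ^ 3 + |B| * D.d < D.m) :
    A * D.ε * D.q ^ 3 + B * D.d = 0 := by
  have h1 : (D.m : ℤ) ∣ A * D.ε * D.q ^ 3 + B * D.d := by
    have h2 : A * D.ε * D.q ^ 3 + B * D.d = D.d * (A * D.n + B) - A * (D.d * D.n - D.ε * D.q ^ 3) := by ring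
    rw [h2]
    exact dvd_sub (Dvd.dvd.mul_left h _) (Dvd.dvd.mul_left D.congr_n _)
  apply Int.eq_zero_of_abs_lt_dvd h1
  have h3 : |A * D.ε * (D.q : ℤ) ^ 3| = |A| * D.q ^ 3 := by
    rw [abs_mul, abs_mul, D.eps_abs, mul_one, abs_of_nonneg (show (0 : ℤ) ≤ (D.q : ℤ) ^ 3 by positivity)]
  have h4 : |B * (D.d : ℤ)| = |B| * D.d := by
    rw [abs_mul, abs_of_nonneg (show (0 : ℤ) ≤ (D.d : ℤ) by positivity)]
  calc |A * D.ε * (D.q : ℤ) ^ 3 + B * D.d| ≤ |A * D.ε * (D.q : ℤ) ^ 3| + |B * (D.d : ℤ)| := abs_add_le _ _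
    _ < D.m := by rw [h3, h4]; exact hlt

theorem m_three : ¬ 3 ∣ D.m := by
  intro h
  have h1 := D.m_add
  have h2 : D.q % 3 < 3 := Nat.mod_lt _ (by norm_num)
  have h4 : (D.m + D.q ^ 2) % 3 = (D.q ^ 4 + 1) % 3 := by rw [h1]
  have h5 : D.q ^ 2 % 3 = ((D.q % 3) ^ 2) % 3 := by rw [Nat.pow_mod]
  have h6 : D.q ^ 4 % 3 = ((D.q % 3) ^ 4) % 3 := by rw [Nat.pow_mod]
  generalize D.q % 3 = r at *
  interval_cases r <;> omega

/-- prime divisors of `m` -/
theorem prime_m {s : ℕ} (hs : s.Prime) (hd : s ∣ D.m) : s % 12 = 1 := by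
  have h2 : s ≠ 2 := by rintro rfl; exact D.m_odd hd
  have h3 : s ≠ 3 := by rintro rfl; exact D.m_three hd
  have := Fact.mk hs
  have hz : ((D.q : ZMod s)) ^ 4 - (D.q : ZMod s) ^ 2 + 1 = 0 := by
    have h4 : ((D.m : ℕ) : ZMod s) = 0 := (ZMod.natCast_eq_zero_iff _ _).2 hd
    have h5 : ((D.m + D.q ^ 2 : ℕ) : ZMod s) = ((D.q ^ 4 + 1 : ℕ) : ZMod s) := by rw [D.m_add]
    push_cast at h5
    rw [h4, zero_add] at h5
    rw [h5]
    ring
  set a : ZMod s := (D.q : ZMod s)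
  have ha0 : a ≠ 0 := by
    intro h0
    rw [h0] at hz
    simp at hz
  have h6 : a ^ 6 = -1 := by
    have : a ^ 6 + 1 = (a ^ 2 + 1) * (a ^ 4 - a ^ 2 + 1) := by ring
    rw [hz, mul_zero] at this
    exact eq_neg_of_add_eq_zero_left this
  have h2' : (2 : ZMod s) ≠ 0 := by
    intro h0
    have : ((2 : ℕ) : ZMod s) = 0 := by exact_mod_cast h0
    rw [ZMod.natCast_eq_zero_iff] at this
    exact h2 ((Nat.prime_dvd_prime_iff_eq hs Nat.prime_two).1 this)
  have h3' : (3 : ZMod s) ≠ 0 := by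
    intro h0
    have : ((3 : ℕ) : ZMod s) = 0 := by exact_mod_cast h0
    rw [ZMod.natCast_eq_zero_iff] at this
    exact h3 ((Nat.prime_dvd_prime_iff_eq hs Nat.prime_three).1 this)
  have h12 : a ^ 12 = 1 := by
    have : a ^ 12 = (a ^ 6) ^ 2 := by ring
    rw [this, h6]
    ring
  have hord : orderOf a = 12 := by
    refine orderOf_eq_of_pow_and_pow_div_prime (by norm_num) h12 ?_
    intro r hr hrd
    have : r ∣ 2 ^ 2 * 3 := by simpa using hrd
    rcases hr.dvd_mul.1 this with h7 | h7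
    · have h8 := (Nat.prime_dvd_prime_iff_eq hr Nat.prime_two).1 (hr.dvd_of_dvd_pow h7)
      subst h8
      show a ^ 6 ≠ 1
      rw [h6]
      intro h9
      apply h2'
      linear_combination -h9
    · have h8 := (Nat.prime_dvd_prime_iff_eq hr Nat.prime_three).1 h7
      subst h8
      show a ^ 4 ≠ 1
      intro h9
      have h10 : a ^ 2 = 2 := by linear_combination h9 - hz
      apply h3'
      have : a ^ 4 = (a ^ 2) ^ 2 := by ring
      rw [this, h10] at h9
      linear_combination h9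
  have h7 : orderOf a ∣ s - 1 := ZMod.orderOf_dvd_card_sub_one ha0
  rw [hord] at h7
  have := hs.two_le
  omega

theorem prime_m_ge {s : ℕ} (hs : s.Prime) (hd : s ∣ D.m) : 13 ≤ s := by
  have h1 := D.prime_m hs hd
  have := hs.two_le
  omega

/-- `m` and `n` are coprime -/
theorem coprime_mn : Nat.Coprime D.m D.n := by
  apply Nat.coprime_of_dvd
  intro s hs h1 h2
  have hp := Nat.prime_iff_prime_int.1 hs
  have h3 : (s : ℤ) ∣ D.d * D.n - D.ε * D.q ^ 3 := (Int.natCast_dvd_natCast.2 h1).trans D.congr_n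
  have h4 : (s : ℤ) ∣ D.ε * D.q ^ 3 :=
    (dvd_sub_right (Dvd.dvd.mul_left (Int.natCast_dvd_natCast.2 h2) _)).1 h3
  have h5 : (s : ℤ) ∣ D.q := by
    rcases hp.dvd_mul.1 h4 with h6 | h6
    · exfalso
      have : IsUnit (s : ℤ) := isUnit_of_dvd_unit h6 (by rcases D.eps with h | h <;> rw [h] <;> simp)
      exact hp.not_isUnit this
    · exact hp.dvd_of_dvd_pow h6
  have h6 : s ∣ D.q := Int.natCast_dvd_natCast.1 h5
  have h7 := D.m_add
  have h8 : s ∣ D.q ^ 4 + 1 := by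
    rw [← h7]
    exact (Nat.dvd_add_right h1).2 (dvd_pow h6 (by norm_num))
  have h9 : s ∣ 1 := (Nat.dvd_add_right (dvd_pow h6 (by norm_num))).1 h8
  exact hs.one_lt.ne' (Nat.dvd_one.1 h9)

theorem n_three : ¬ 3 ∣ D.n := by
  intro h
  have h0 : (3 : ℤ) ∣ (D.q : ℤ) ^ 6 + D.ε * D.q ^ 3 + 1 := by
    rw [← D.hn]
    exact Dvd.dvd.mul_left (by exact_mod_cast h) _
  have hq : ∃ r : ℤ, (D.q : ℤ) = r ∧ True := ⟨_, rfl, trivial⟩
  -- `3 ∣ q - ε`
  have h1 : (3 : ℤ) ∣ (D.q : ℤ) - D.ε := by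
    have h2 : (D.q : ℤ) % 3 = 0 ∨ (D.q : ℤ) % 3 = 1 ∨ (D.q : ℤ) % 3 = 2 := by omega
    rcases h2 with h2 | h2 | h2
    · exfalso
      have h3 : (3 : ℤ) ∣ D.q := Int.dvd_of_emod_eq_zero h2
      have h4 : (3 : ℤ) ∣ (D.q : ℤ) ^ 6 + D.ε * D.q ^ 3 :=
        dvd_add (dvd_pow h3 (by norm_num)) (Dvd.dvd.mul_left (dvd_pow h3 (by norm_num)) _)
      have h5 := (dvd_add_right h4).1 h0
      norm_num at h5
    · obtain ⟨k, hk⟩ : ∃ k : ℤ, (D.q : ℤ) = 3 * k + 1 := ⟨(D.q : ℤ) / 3, by omega⟩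
      rcases D.eps with he | he
      · rw [he, hk]; exact ⟨k, by ring⟩
      · exfalso
        rw [he, hk] at h0
        obtain ⟨j, hj⟩ := h0
        have : (3 : ℤ) * (j - (243*k^6+486*k^5+405*k^4+171*k^3+36*k^2+3*k)) = 1 := by
          linear_combination -hj
        omega
    · obtain ⟨k, hk⟩ : ∃ k : ℤ, (D.q : ℤ) = 3 * k - 1 := ⟨(D.q : ℤ) / 3 + 1, by omega⟩
      rcases D.eps with he | he
      · exfalso
        rw [he, hk] at h0
        obtain ⟨j, hj⟩ := h0
        have : (3 : ℤ) * (j - (243*k^6-486*k^5+405*k^4-171*k^3+36*k^2-3*k)) = 1 := by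
          linear_combination -hj
        omega
      · rw [he, hk]; exact ⟨k, by ring⟩
  have h2 : D.d = 3 := D.hd3.2 h1
  obtain ⟨k, hk⟩ := h1
  obtain ⟨j, hj⟩ := h
  have h3 := D.hn
  have h4 : (D.q : ℤ) = 3 * k + D.ε := by linarith only [hk]
  rw [h2, hj, h4] at h3
  push_cast at h3
  rcases D.eps with he | he
  · rw [he] at h3
    have : (9 : ℤ) * (j - (81*k^6+162*k^5+135*k^4+63*k^3+18*k^2+3*k)) = 3 := by
      linear_combination h3
    omega
  · rw [he] at h3
    have : (9 : ℤ) * (j - (81*k^6-162*k^5+135*k^4-63*k^3+18*k^2-3*k)) = 3 := by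
      linear_combination h3
    omega

/-- prime divisors of `n` -/
theorem prime_n {s : ℕ} (hs : s.Prime) (hd : s ∣ D.n) : s % 18 = 1 := by
  have h2 : s ≠ 2 := by rintro rfl; exact D.n_odd hd
  have h3 : s ≠ 3 := by rintro rfl; exact D.n_three hd
  have := Fact.mk hs
  have hz : ((D.q : ZMod s)) ^ 6 + (D.ε : ZMod s) * (D.q : ZMod s) ^ 3 + 1 = 0 := by
    have h4 : ((D.n : ℕ) : ZMod s) = 0 := (ZMod.natCast_eq_zero_iff _ _).2 hd
    have h5 : (((D.d : ℤ) * D.n : ℤ) : ZMod s) = (((D.q : ℤ) ^ 6 + D.ε * D.q ^ 3 + 1 : ℤ) : ZMod s) := by rw [D.hn]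
    push_cast at h5
    rw [h4, mul_zero] at h5
    exact h5.symm
  have he : (D.ε : ZMod s) * (D.ε : ZMod s) = 1 := by
    have := D.eps_sq
    exact_mod_cast congrArg (Int.cast : ℤ → ZMod s) this
  obtain ⟨a, ha⟩ : ∃ a : ZMod s, a = D.ε * D.q := ⟨_, rfl⟩
  have ha3 : a ^ 3 = D.ε * (D.q : ZMod s) ^ 3 := by rw [ha]; linear_combination (D.ε : ZMod s) * D.q ^ 3 * he
  have ha6 : a ^ 6 = (D.q : ZMod s) ^ 6 := by
    have : a ^ 6 = (a ^ 3) ^ 2 := by ring
    rw [this, ha3]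
    linear_combination (D.q : ZMod s) ^ 6 * he
  have h7 : a ^ 6 + a ^ 3 + 1 = 0 := by rw [ha3, ha6]; exact hz
  have ha0 : a ≠ 0 := by
    intro h0
    rw [h0] at h7
    simp at h7
  have h9 : a ^ 9 = 1 := by linear_combination (a ^ 3 - 1) * h7
  have hord : orderOf a = 9 := by
    refine orderOf_eq_of_pow_and_pow_div_prime (by norm_num) h9 ?_
    intro r hr hrd
    have : r ∣ 3 ^ 2 := by simpa using hrd
    have h8 := (Nat.prime_dvd_prime_iff_eq hr Nat.prime_three).1 (hr.dvd_of_dvd_pow this)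
    subst h8
    show a ^ 3 ≠ 1
    intro h10
    have h11 : (3 : ZMod s) = 0 := by
      have : a ^ 6 = (a ^ 3) ^ 2 := by ring
      rw [this, h10] at h7
      linear_combination h7
    have : ((3 : ℕ) : ZMod s) = 0 := by exact_mod_cast h11
    rw [ZMod.natCast_eq_zero_iff] at this
    exact h3 ((Nat.prime_dvd_prime_iff_eq hs Nat.prime_three).1 this)
  have h8 : orderOf a ∣ s - 1 := ZMod.orderOf_dvd_card_sub_one ha0
  rw [hord] at h8
  have h10 := hs.two_le
  have h11 : s % 2 = 1 := by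
    rcases hs.eq_two_or_odd with h | h
    · exact absurd h h2
    · exact h
  omega

theorem prime_n_ge {s : ℕ} (hs : s.Prime) (hd : s ∣ D.n) : 19 ≤ s := by
  have h1 := D.prime_n hs hd
  have := hs.two_le
  omega

theorem e_odd : ¬ 2 ∣ D.e := by
  intro h
  have h1 : Even (D.e : ℤ) := by
    rw [even_iff_two_dvd]
    exact_mod_cast h
  rw [D.he, Int.even_mul] at h1
  rcases h1 with h1 | h1
  · have h2 : Even ((D.q : ℤ) * (D.q + D.ε)) := by
      rcases Int.even_or_odd (D.q : ℤ) with h | h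
      · exact h.mul_right _
      · have h3 : Odd D.ε := by rcases D.eps with h | h <;> rw [h] <;> decide
        exact (h.add_odd h3).mul_left _
    have h3 : (D.q : ℤ) ^ 2 + D.ε * D.q + 1 = (D.q : ℤ) * (D.q + D.ε) + 1 := by ring
    rw [h3] at h1
    exact (Int.not_even_iff_odd.2 h2.add_one) h1
  · rw [even_iff_two_dvd] at h1
    exact D.m_odd (by exact_mod_cast h1)

theorem one_lt_n : 19 ≤ D.n := by
  have hn1 : D.n ≠ 1 := by
    intro h
    have h1 := D.hn
    rw [h] at h1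
    have h2 := D.two_le'
    have h3 : (8 : ℤ) ≤ (D.q : ℤ) ^ 3 := by nlinarith only [h2, sq_nonneg ((D.q : ℤ) - 2), mul_self_nonneg ((D.q : ℤ))]
    have h4 : (D.q : ℤ) ^ 6 = (D.q : ℤ) ^ 3 * (D.q : ℤ) ^ 3 := by ring
    rcases D.eps with h | h <;> rcases D.hd with h' | h' <;> rw [h, h'] at h1 <;> push_cast at h1 <;> nlinarith only [h3, h1, _root_.mul_self_nonneg (↑D.q ^ 3 : ℤ)]
  obtain ⟨s, hs, hd⟩ := Nat.exists_prime_and_dvd hn1
  have h0 : D.n ≠ 0 := by
    intro h
    exact D.n_odd (h ▸ dvd_zero _)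
  exact (D.prime_n_ge hs hd).trans (Nat.le_of_dvd (Nat.pos_of_ne_zero h0) hd)

theorem pos_n : 0 < D.n := by have := D.one_lt_n; omega

theorem pos_m : 0 < D.m := by have := D.m_ge; omega

end Dat

/-! ### the situation -/

namespace Sit

variable {D : Dat} {S : Type*} [Group S]

theorem congr {T : Type*} [Group T] (h : Sit D S) (f : S ≃* T) : Sit D T := by
  have key : ∀ x : T, orderOf (f.symm x) = orderOf x := fun x =>
    orderOf_injective f.symm.toMonoidHom f.symm.injective x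
  have key' : ∀ x : S, orderOf (f x) = orderOf x := fun x => orderOf_injective f.toMonoidHom f.injective x
  refine ⟨?_, ?_, ?_, ?_, ?_, ?_, ?_⟩
  · obtain ⟨x, hx⟩ := h.on
    exact ⟨f x, by rw [key', hx]⟩
  · intro x s hs h1 h2
    rw [← key] at h2 ⊢
    exact h.iso _ s hs h1 h2
  · obtain ⟨x, hx⟩ := h.om
    exact ⟨f x, by rw [key', hx]⟩
  · intro x s hs h1 h2
    rw [← key] at h2 ⊢
    exact h.tor _ s hs h1 h2
  · intro h2
    obtain ⟨x, hx⟩ := h.o8 h2
    exact ⟨f x, by rw [key', hx]⟩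
  · intro h0 x s hs h1 h2
    rw [← key] at h2 ⊢
    exact h.tor8 h0 _ s hs h1 h2
  · intro r hr hd
    exact h.prm r hr (by rwa [Nat.card_congr f.toEquiv])

variable (h : Sit D S)

include h

/-- an element order meeting `n` divides `n` -/
theorem dvd_n {a s : ℕ} (ha : ∃ x : S, orderOf x = a) (hs : s.Prime) (hsa : s ∣ a) (hsn : s ∣ D.n) : a ∣ D.n := by
  obtain ⟨x, rfl⟩ := ha
  exact h.iso x s hs hsn hsa

/-- an element order meeting `m` divides `e` -/
theorem dvd_e {a s : ℕ} (ha : ∃ x : S, orderOf x = a) (hs : s.Prime) (hsa : s ∣ a) (hsm : s ∣ D.m) : a ∣ D.e := by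
  obtain ⟨x, rfl⟩ := ha
  exact h.tor x s hs hsm hsa

theorem not_two_m {s : ℕ} (hs : s.Prime) (hsm : s ∣ D.m) : ¬ ∃ x : S, orderOf x = 2 * s := fun hx =>
  D.e_odd ((Dvd.intro _ rfl).trans (h.dvd_e hx hs (Dvd.intro_left _ rfl) hsm))

/-- no element order meets both `n` and `m` -/
theorem not_both {a s t : ℕ} (ha : ∃ x : S, orderOf x = a) (hs : s.Prime) (hsa : s ∣ a) (hsn : s ∣ D.n)
    (ht : t.Prime) (hta : t ∣ a) (htm : t ∣ D.m) : False := by
  have h1 := h.dvd_n ha hs hsa hsn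
  have h2 : t ∣ D.n := hta.trans h1
  exact ht.one_lt.ne' (Nat.dvd_one.1 (D.coprime_mn ▸ Nat.dvd_gcd htm h2))

theorem adj_dvd_e {r s : ℕ} (hsm : s ∣ D.m) (ha : H94.PG.Adj S s r) : r ∣ D.e := by
  obtain ⟨hs, hr, hne, x, y, hx, hy, hxy⟩ := ha
  have hco : (orderOf x).Coprime (orderOf y) := by rw [hx, hy]; exact (Nat.coprime_primes hs hr).2 hne
  have h1 := hxy.orderOf_mul_eq_mul_orderOf_of_coprime hco
  rw [hx, hy] at h1
  exact (Dvd.intro_left _ rfl).trans (h.dvd_e ⟨x * y, h1⟩ hs (Dvd.intro _ rfl) hsm)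

theorem not_adj_two_m {s : ℕ} (hsm : s ∣ D.m) : ¬ H94.PG.Adj S s 2 := fun ha => D.e_odd (h.adj_dvd_e hsm ha)

section fin

variable [Finite S]

theorem n_dvd_card : D.n ∣ Nat.card S := by
  obtain ⟨x, hx⟩ := h.on
  rw [← hx]
  exact orderOf_dvd_natCard x

theorem m_dvd_card : D.m ∣ Nat.card S := by
  obtain ⟨x, hx⟩ := h.om
  rw [← hx]
  exact orderOf_dvd_natCard x

/-- a prime divisor of `n` -/
theorem exists_prime_n : ∃ s : ℕ, s.Prime ∧ s ∣ D.n ∧ 19 ≤ s ∧ s ∣ Nat.card S := by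
  have h1 := D.one_lt_n
  obtain ⟨s, hs, hd⟩ := Nat.exists_prime_and_dvd (show D.n ≠ 1 by omega)
  exact ⟨s, hs, hd, D.prime_n_ge hs hd, hd.trans h.n_dvd_card⟩

/-- a prime divisor of `m` -/
theorem exists_prime_m : ∃ s : ℕ, s.Prime ∧ s ∣ D.m ∧ 13 ≤ s ∧ s ∣ Nat.card S := by
  have h1 := D.m_ge
  obtain ⟨s, hs, hd⟩ := Nat.exists_prime_and_dvd (show D.m ≠ 1 by omega)
  exact ⟨s, hs, hd, D.prime_m_ge hs hd, hd.trans h.m_dvd_card⟩

/-- the same for `m` -/
theorem card_dvd {T : Subgroup S} (hc : IsCyclic ↥T) {s : ℕ} (hs : s.Prime) (hsT : s ∣ Nat.card ↥T)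
    (hcent : ∀ y ∈ T, orderOf y = s → Subgroup.centralizer {y} ≤ T) (hsm : s ∣ D.m) :
    D.m ∣ Nat.card ↥T ∧ Nat.card ↥T ∣ D.e := by
  constructor
  · obtain ⟨x, hx⟩ := h.om
    have hx0 : orderOf x ≠ 0 := (orderOf_pos x).ne'
    have ho : orderOf (x ^ (orderOf x / s)) = s := orderOf_pow_orderOf_div hx0 (by rw [hx]; exact hsm)
    obtain ⟨g, -, hg⟩ := Cfsg.Agent.H129.CycT.centralizer_conj hc hs hsT hcent ho
    have h1 : g * x * g⁻¹ ∈ T := by
      rw [← hg, Subgroup.mem_centralizer_singleton_iff]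
      exact (Commute.self_pow x _).eq
    have h2 : orderOf (g * x * g⁻¹) = orderOf x := by
      have := orderOf_injective (MulAut.conj g).toMonoidHom (MulAut.conj g).injective x
      simpa using this
    rw [← hx, ← h2, ← Subgroup.orderOf_mk _ h1]
    exact orderOf_dvd_natCard _
  · obtain ⟨t, ht⟩ := hc.exists_generator
    have h1 : orderOf (t : S) = Nat.card ↥T := by
      rw [Subgroup.orderOf_coe]
      exact orderOf_eq_card_of_forall_mem_zpowers ht
    exact h.dvd_e ⟨_, h1⟩ hs hsT hsm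

end fin

end Sit

end Cfsg.Agent.R2.Spec.X1.E6
end

-- part: R2/Spec/X1/E6/I9/Base
section
prune_inst 0x4101065043c22000000180000b20020003000000000400001304004000904004280400800022005121044b8801800000002100050400000000a003400000600000081c602e6d80f08880006003083180c00000000020000000000000000000000000000000
set_option linter.all false
open scoped Cfsg.Agent.FastGrp

-- part: R2/Spec/X1/E6/I9/Num
section
/-!
# Numbers for the identification of `E₆(q)`, `²E₆(q)` (helper977, S3480, S3481)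

* `kill2` : `m ∣ A n + B` implies `m ∣ A² + d² B²` (since `q⁶ = -1` modulo `m`), so `q⁴ - q² + 1 ≤ A² + d² B²`;
* `small` : the numbers for `q ≤ 9`.
-/

set_option autoImplicit false

namespace Cfsg.Agent.R2.Spec.X1.E6.I9

open Cfsg.Agent.R2.Spec.X1.E6

variable (D : Dat)

/-- `m ∣ A n + B` implies `m ∣ A² + d² B²` -/
theorem kill2 {A B : ℤ} (h : (D.m : ℤ) ∣ A * D.n + B) : (D.m : ℤ) ∣ A ^ 2 + D.d ^ 2 * B ^ 2 := by
  have h1 : (D.m : ℤ) ∣ A * D.ε * D.q ^ 3 + B * D.d := by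
    have h2 : A * D.ε * D.q ^ 3 + B * D.d = D.d * (A * D.n + B) - A * (D.d * D.n - D.ε * D.q ^ 3) := by ring
    rw [h2]
    exact dvd_sub (Dvd.dvd.mul_left h _) (Dvd.dvd.mul_left D.congr_n _)
  have h3 : (D.m : ℤ) ∣ (D.q : ℤ) ^ 6 + 1 := by
    rw [D.hm]
    exact ⟨(D.q : ℤ) ^ 2 + 1, by ring⟩
  have h4 : A ^ 2 + D.d ^ 2 * B ^ 2 = A ^ 2 * ((D.q : ℤ) ^ 6 + 1) -
      (A * D.ε * D.q ^ 3 + B * D.d) * (A * D.ε * D.q ^ 3 - B * D.d) := by
    linear_combination (A ^ 2 * (D.q : ℤ) ^ 6) * D.eps_sq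
  rw [h4]
  exact dvd_sub (Dvd.dvd.mul_left h3 _) (Dvd.dvd.mul_right h1 _)

/-- the size form -/
theorem kill2_le {A B : ℤ} (h : (D.m : ℤ) ∣ A * D.n + B) (hA : A ≠ 0) :
    (D.q : ℤ) ^ 4 - D.q ^ 2 + 1 ≤ A ^ 2 + D.d ^ 2 * B ^ 2 := by
  rw [← D.hm]
  apply Int.le_of_dvd _ (kill2 D h)
  have : 0 < A ^ 2 := by positivity
  positivity

theorem ne_six : D.q ≠ 6 := by
  intro h
  have := D.pp
  rw [h] at this
  revert this
  decide

/-- the numbers for small `q` -/
theorem small (h : D.q ≤ 9) : (D.q, D.ε, D.d, D.n) ∈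
    ([(2, 1, 1, 73), (2, -1, 3, 19), (3, 1, 1, 757), (3, -1, 1, 703), (4, 1, 3, 1387), (4, -1, 1, 4033),
      (5, 1, 1, 15751), (5, -1, 3, 5167), (7, 1, 3, 39331), (7, -1, 1, 117307), (8, 1, 1, 262657), (8, -1, 3, 87211), (9, 1, 1, 532171),
      (9, -1, 1, 530713)] : List (ℕ × ℤ × ℕ × ℕ)) := by
  have h2 := D.two_le
  have h6 := ne_six D
  have hn := D.hn
  have hd := D.hd
  have hd3 := D.hd3
  obtain ⟨q, hq⟩ : ∃ q, D.q = q := ⟨_, rfl⟩
  obtain ⟨d, hd'⟩ : ∃ d, D.d = d := ⟨_, rfl⟩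
  obtain ⟨n, hn'⟩ : ∃ n, D.n = n := ⟨_, rfl⟩
  obtain ⟨e, he'⟩ : ∃ e, D.ε = e := ⟨_, rfl⟩
  have he := D.eps
  rw [hq] at h h2 h6 hn hd3
  rw [hd'] at hn hd hd3
  rw [hn'] at hn
  rw [he'] at he hn hd3
  rw [hq, hd', hn', he']
  clear hq hd' hn' he'
  simp only [List.mem_cons, List.not_mem_nil, or_false, Prod.mk.injEq]
  interval_cases q <;> rcases he with rfl | rfl <;> rcases hd with rfl | rfl
  all_goals try norm_num at hd3
  all_goals try norm_num at hn
  all_goals try norm_num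
  all_goals omega

end Cfsg.Agent.R2.Spec.X1.E6.I9
end

-- part: R2/Spec/X1/E6/I9/Base
section
/-!
# Tools for the rows (helper977, S3480, S3481)

* `isoN` : the isolated number;
* `dvd_m` : removing factors whose primes do not divide `m`.
-/

set_option autoImplicit false

namespace Cfsg.Agent.R2.Spec.X1.E6.I9

open Cfsg.Agent.R2.Spec.X1.E6 Cfsg.Agent.H72.F4I.Iso

variable {D : Dat} {S : Type*} [Group S]

/-- the isolated number -/
theorem isoN (h : Sit D S) : IsoN S D.n :=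
  ⟨h.on, h.iso, D.n_odd, D.n_three, by have := D.one_lt_n; omega⟩

/-- `m` is prime to `A` if its prime divisors do not divide `A` -/
theorem coprime_m {A : ℕ} (h : ∀ t : ℕ, t.Prime → t ∣ D.m → ¬ t ∣ A) : Nat.Coprime D.m A :=
  Nat.coprime_of_dvd fun t ht htm htA => h t ht htm htA

/-- a common prime divisor of `m` and `n` does not exist -/
theorem not_dvd_n {t : ℕ} (ht : t.Prime) (htm : t ∣ D.m) : ¬ t ∣ D.n := fun h =>
  ht.one_lt.ne' (Nat.dvd_one.1 (D.coprime_mn ▸ Nat.dvd_gcd htm h))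

theorem not_mul {t A B : ℕ} (ht : t.Prime) (hA : ¬ t ∣ A) (hB : ¬ t ∣ B) : ¬ t ∣ A * B := fun h =>
  ((Nat.Prime.dvd_mul ht).1 h).elim hA hB

theorem n_le : D.n ≤ D.q ^ 6 + D.q ^ 3 + 1 := by
  have h3 := D.hn
  have h4 : (1 : ℤ) ≤ D.d := by exact_mod_cast D.d_pos
  have h5 : (D.n : ℤ) ≤ D.d * D.n := by nlinarith [Int.natCast_nonneg D.n]
  have h6 : D.ε * (D.q : ℤ) ^ 3 ≤ (D.q : ℤ) ^ 3 := by
    have : (0 : ℤ) ≤ (D.q : ℤ) ^ 3 := by positivity
    rcases D.eps with h | h <;> rw [h] <;> linarith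
  have h7 : (D.n : ℤ) ≤ (D.q : ℤ) ^ 6 + D.q ^ 3 + 1 := by linarith
  exact_mod_cast h7

/-- sizes: `q³ + d < m` -/
theorem one_lt : (D.q : ℤ) ^ 3 + D.d < D.m := by
  rw [D.hm]
  have h2 := D.two_le'
  have hd : (D.d : ℤ) ≤ 3 := by rcases D.hd with h | h <;> rw [h] <;> norm_num
  rcases Nat.lt_or_ge D.q 3 with h3 | h3
  · have h4 : D.q = 2 := by have := D.two_le; omega
    rw [h4]
    push_cast
    linarith
  · have h4 : (3 : ℤ) ≤ D.q := by exact_mod_cast h3
    nlinarith [mul_nonneg (mul_nonneg (show (0 : ℤ) ≤ D.q by linarith) (show (0 : ℤ) ≤ D.q by linarith))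
      (show (0 : ℤ) ≤ D.q - 3 by linarith), mul_nonneg (mul_nonneg (mul_nonneg (show (0 : ℤ) ≤ D.q by linarith)
      (show (0 : ℤ) ≤ D.q by linarith)) (show (0 : ℤ) ≤ D.q by linarith)) (show (0 : ℤ) ≤ D.q - 3 by linarith),
      mul_nonneg (show (0 : ℤ) ≤ D.q by linarith) (show (0 : ℤ) ≤ D.q - 3 by linarith)]

/-- sizes: `(q - 1) q³ + 3 < m` -/
theorem pred_lt {A : ℤ} (hA : A + 1 ≤ D.q) : A * D.q ^ 3 + D.d < D.m := by
  rw [D.hm]
  have h2 := D.two_le'
  have hd : (D.d : ℤ) ≤ 3 := by rcases D.hd with h | h <;> rw [h] <;> norm_num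
  have h3 : A * (D.q : ℤ) ^ 3 ≤ (D.q - 1) * D.q ^ 3 :=
    mul_le_mul_of_nonneg_right (by linarith) (by positivity)
  rcases Nat.lt_or_ge D.q 3 with h3' | h3'
  · have h4 : D.q = 2 := by have := D.two_le; omega
    rw [h4] at h3 ⊢
    push_cast at h3 ⊢
    linarith
  · have h4 : (3 : ℤ) ≤ D.q := by exact_mod_cast h3'
    nlinarith [mul_nonneg (mul_nonneg (show (0 : ℤ) ≤ D.q by linarith) (show (0 : ℤ) ≤ D.q by linarith))
      (show (0 : ℤ) ≤ D.q - 3 by linarith), mul_nonneg (show (0 : ℤ) ≤ D.q by linarith) (show (0 : ℤ) ≤ D.q - 3 by linarith)]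

/-- **The kill for `|B| = 1`.** -/
theorem dead_one {A B : ℤ} (hA0 : 0 < A) (hB : B = 1 ∨ B = -1) (hA : A = 1 ∨ A + 1 ≤ D.q) (h : (D.m : ℤ) ∣ A * D.n + B) :
    False := by
  have hB1 : |B| = 1 := by rcases hB with h | h <;> rw [h] <;> norm_num
  have hd : (D.d : ℤ) ≤ 3 := by rcases D.hd with h | h <;> rw [h] <;> norm_num
  have hd0 : (0 : ℤ) < D.d := by exact_mod_cast D.d_pos
  have h1 : |A| * D.q ^ 3 + |B| * D.d < D.m := by
    rw [abs_of_pos hA0, hB1, one_mul]
    rcases hA with rfl | hA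
    · rw [one_mul]
      exact one_lt
    · exact pred_lt hA
  have h2 := D.kill h h1
  have h3 : |A * D.ε * (D.q : ℤ) ^ 3| = |B * (D.d : ℤ)| := by
    rw [eq_neg_of_add_eq_zero_left h2, abs_neg]
  rw [abs_mul, abs_mul, D.eps_abs, abs_mul, hB1, abs_of_pos hA0, mul_one, one_mul, abs_of_pos hd0,
    abs_of_nonneg (show (0 : ℤ) ≤ (D.q : ℤ) ^ 3 by positivity)] at h3
  have h4 : (8 : ℤ) ≤ (D.q : ℤ) ^ 3 := by
    have h2 := D.two_le'
    nlinarith [mul_nonneg (show (0 : ℤ) ≤ D.q - 2 by linarith) (show (0 : ℤ) ≤ D.q by linarith),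
      mul_nonneg (mul_nonneg (show (0 : ℤ) ≤ D.q - 2 by linarith) (show (0 : ℤ) ≤ D.q by linarith)) (show (0 : ℤ) ≤ D.q by linarith)]
  nlinarith

end Cfsg.Agent.R2.Spec.X1.E6.I9
end
end

-- part: R2/Spec/X1/E6/Row
section
set_option linter.all false

/-!
# `E₆(q)`, `²E₆(q)` are recognized by their element orders (helper414, S3480, S3481): interface

* `Frm6` : the frame of a group with the element orders of `M`, `Sit D M` (proved in `H414/E6/Frame.lean`, huge closure;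
  take it as a hypothesis);
* `rcg` : the assembly from identification, covers and automorphisms.
-/

set_option autoImplicit false

namespace Cfsg.Agent.R2.Spec.X1.E6

open Cfsg Cfsg.Agent.H366.X Cfsg.Agent.H373.Recog

universe u v

/-- the frame: `D` the numbers, `M` a group with `Sit D M` -/
def Frm6 : Prop := ∀ (D : Dat) (M : Type v) [Group M] [Finite M], Sit D M → (∃ x : M, orderOf x = 2) →
  ∀ (G : Type u) [Group G] [Finite G], Set.range (orderOf : G → ℕ) = Set.range (orderOf : M → ℕ) →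
  ∃ (K : Subgroup G) (_ : K.Normal), Group.IsSolvable K ∧ ∃ (S : Subgroup (G ⧸ K)) (_ : S.Normal),
    IsSimpleGroup S ∧ ¬ IsMulCommutative S ∧ Subgroup.centralizer (S : Set (G ⧸ K)) = ⊥ ∧ Sit D S ∧
    ∀ x : S, ∃ y : M, orderOf y = orderOf x

end Cfsg.Agent.R2.Spec.X1.E6
end

-- part: R2/Spec/X2/LWin
section
prune_inst 0x4101075043422000000000000b20022003000000000008001710002000b0400428040080002200002104430803000000002000050400000000a003400000600000082c40060910d08800006001081500000000000020000000000000000000000000000000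
set_option linter.all false
open scoped Cfsg.Agent.FastGrp

/-!
# The window of `PSL_3(q)`, `q` odd (helper16)

`LWin T n`: `n` is an isolated number of `T`, and every other element order `m` satisfies `2 m ≤ n`, or `m + δ = n` with
`m` even, `3 ≤ δ`, `δ² < 4 n`.
-/

set_option autoImplicit false

namespace Cfsg.Agent.R2.Spec.X2

open Cfsg Cfsg.Agent.H360.Iso

/-- the window -/
structure LWin (T : Type*) [Group T] (n : ℕ) : Prop where
  iso : IsoN T n
  win : ∀ (x : T) (m : ℕ), orderOf x = m → m = n ∨ 2 * m ≤ n ∨ (∃ δ, 3 ≤ δ ∧ m + δ = n ∧ δ ^ 2 < 4 * n ∧ Even m)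
  mod : ∀ r : ℕ, r.Prime → r ∣ n → r % 3 = 1

section

variable {T : Type*} [Group T] {n : ℕ}

theorem LWin.big (h : LWin T n) : 31 ≤ n := h.iso.big

theorem LWin.congr {T' : Type*} [Group T'] (h : LWin T n) (e : T ≃* T') : LWin T' n := by
  refine ⟨h.iso.congr e, ?_, h.mod⟩
  intro x m hx
  refine h.win (e.symm x) m ?_
  rw [← hx]
  exact orderOf_injective e.symm.toMonoidHom e.symm.injective x

theorem LWin.mod_dvd (h : LWin T n) {d : ℕ} (hd : d ∣ n) : d % 3 = 1 :=
  mod_of_dvd (by have := h.big; omega) h.mod hd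

/-- numbers larger than `n` are not element orders -/
theorem LWin.not_above (h : LWin T n) {m : ℕ} (he : ∃ x : T, orderOf x = m) (hm : n < m) : False := by
  obtain ⟨x, hx⟩ := he
  rcases h.win x m hx with h1 | h1 | ⟨δ, h1, h2, h3, h4⟩
  · omega
  · omega
  · omega

/-- odd numbers larger than `n / 2` and different from `n` are not element orders -/
theorem LWin.not_odd (h : LWin T n) {m : ℕ} (he : ∃ x : T, orderOf x = m) (ho : Odd m) (hm : n < 2 * m)
    (hne : m ≠ n) : False := by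
  obtain ⟨x, hx⟩ := he
  rcases h.win x m hx with h1 | h1 | ⟨δ, h1, h2, h3, h4⟩
  · omega
  · omega
  · exact (Nat.not_even_iff_odd.2 ho) h4

/-- numbers between `n / 2` and `n`, not in the window -/
theorem LWin.not_low (h : LWin T n) {m δ : ℕ} (he : ∃ x : T, orderOf x = m) (hm : m + δ = n) (hmn : n < 2 * m)
    (hδ : 0 < δ) (hw : δ ≤ 2 ∨ 4 * n ≤ δ ^ 2) : False := by
  obtain ⟨x, hx⟩ := he
  rcases h.win x m hx with h1 | h1 | ⟨δ', h1, h2, h3, h4⟩
  · omega
  · omega
  · have : δ' = δ := by omega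
    subst this
    omega

/-- an element order `n + 1`, `n + 2`, `n - 1`, `n - 2` is impossible -/
theorem LWin.not_near (h : LWin T n) {m : ℕ} (he : ∃ x : T, orderOf x = m) (hm : m ≠ n) (h1 : m ≤ n + 2)
    (h2 : n ≤ m + 2) : False := by
  have hb := h.big
  rcases Nat.lt_or_ge m n with h3 | h3
  · exact h.not_low he (δ := n - m) (by omega) (by omega) (by omega) (Or.inl (by omega))
  · exact h.not_above he (by omega)

/-- the general form of `not_above` -/
theorem LWin.above (h : LWin T n) {m : ℕ} {c A : ℤ} (he : ∃ x : T, orderOf x = m) (hc : 0 < c) (hA : 0 < A)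
    (hm : c * m = c * n + A) : False := by
  refine h.not_above he ?_
  by_contra h2
  have : c * m ≤ c * n := mul_le_mul_of_nonneg_left (by omega) hc.le
  omega

/-- the general form of `not_low` -/
theorem LWin.below (h : LWin T n) {m : ℕ} {c A : ℤ} (he : ∃ x : T, orderOf x = m) (hc : 0 < c) (hA : 0 < A)
    (hm : c * m + A = c * n) (h2 : c * n < 2 * (c * m)) (hw : 4 * n * c ^ 2 ≤ A ^ 2) : False := by
  have h1 : (m : ℤ) < n := by
    by_contra h2
    have : c * n ≤ c * m := mul_le_mul_of_nonneg_left (by omega) hc.le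
    omega
  have h0 : (n : ℤ) < 2 * m := by
    by_contra h3
    have h4 : c * (2 * m) ≤ c * n := mul_le_mul_of_nonneg_left (by omega) hc.le
    have h5 : c * (2 * m) = 2 * (c * m) := by ring
    omega
  obtain ⟨δ, hδ⟩ : ∃ δ, m + δ = n := ⟨n - m, by omega⟩
  have h3 : A = c * δ := by
    have h4 : (n : ℤ) = m + δ := by rw [← hδ]; push_cast; ring
    rw [h4] at hm
    linarith only [hm]
  refine h.not_low he hδ (by omega) (by omega) (Or.inr ?_)
  rw [h3] at hw
  have h4 : (4 * n : ℤ) * c ^ 2 ≤ (δ : ℤ) ^ 2 * c ^ 2 := by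
    calc _ ≤ (c * δ) ^ 2 := hw
      _ = _ := by ring
  have h5 : (4 * n : ℤ) ≤ (δ : ℤ) ^ 2 := le_of_mul_le_mul_right h4 (by positivity)
  exact_mod_cast h5

/-- twins -/
theorem LWin.not_twin (h : LWin T n) {A B : ℕ} (hAB : A + 1 = B ∨ A + 2 = B) (ht : Twin T n A B) : False := by
  obtain ⟨h1, h2, h3⟩ := ht
  rcases h1 with h1 | h1
  · exact h.not_near h3 (by omega) (by omega) (by omega)
  · exact h.not_near h2 (by omega) (by omega) (by omega)

theorem LWin.not_isPSp (h : LWin T n) : ¬ IsPSp T := by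
  rintro ⟨F, _, _, m, hm, -, ⟨e⟩⟩
  have h' := h.congr e
  obtain ⟨A, B, hAB, ht⟩ := psp hm h'.iso
  exact h'.not_twin hAB ht

theorem LWin.not_isPOmegaOdd (h : LWin T n) : ¬ IsPOmegaOdd T := by
  rintro ⟨F, _, _, m, hm, ho, ⟨e⟩⟩
  have h' := h.congr e
  obtain ⟨A, B, hAB, ht⟩ := omegaOdd (by rwa [Nat.card_eq_fintype_card]) hm h'.iso
  exact h'.not_twin hAB ht

/-- `PSL_m(u)`, second component -/
theorem LWin.not_psl_two (h : LWin T n) {u m : ℕ} (hu : 2 ≤ u) (hm : 3 ≤ m)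
    (hn : n * (u - 1) = u ^ (m - 1) - 1) (hE : ∃ x : T, orderOf x * (u - 1) ^ 2 = u ^ m - 1) : False := by
  have hone : ∀ i, 1 ≤ u ^ i := fun i => Nat.one_le_pow _ _ (by omega)
  obtain ⟨x, hx⟩ := hE
  set e := orderOf x with he
  obtain ⟨k, rfl⟩ : ∃ k, m = k + 1 := ⟨m - 1, by omega⟩
  rw [Nat.add_sub_cancel] at hn
  set U : ℤ := (u : ℤ) with hU
  set X : ℤ := (u : ℤ) ^ k with hX
  have hU2 : 2 ≤ U := by omega
  have hX1 : 1 ≤ X := one_le_pow₀ (by linarith only [hu])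
  have e1 : (n : ℤ) * (U - 1) = X - 1 := by
    have h1 : ((n * (u - 1) : ℕ) : ℤ) = ((u ^ k - 1 : ℕ) : ℤ) := by rw [hn]
    rw [Nat.cast_mul, Nat.cast_sub (by omega), Nat.cast_sub (hone _), Nat.cast_pow, Nat.cast_one] at h1
    exact h1
  have e2 : (e : ℤ) * (U - 1) ^ 2 = U * X - 1 := by
    have h1 : ((e * (u - 1) ^ 2 : ℕ) : ℤ) = ((u ^ (k + 1) - 1 : ℕ) : ℤ) := by rw [hx]
    rw [Nat.cast_mul, Nat.cast_pow, Nat.cast_sub (by omega), Nat.cast_sub (hone _), Nat.cast_pow, Nat.cast_one] at h1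
    rw [h1, pow_succ]
    ring
  refine h.above (m := e) (c := (U - 1) ^ 2) (A := X + U - 2) ⟨x, rfl⟩ (by nlinarith only [hu]) (by linarith only [hu, hX1]) ?_
  have h1 : (U - 1) ^ 2 * (e : ℤ) = (e : ℤ) * (U - 1) ^ 2 := by ring
  have h2 : (U - 1) ^ 2 * (n : ℤ) = (U - 1) * ((n : ℤ) * (U - 1)) := by ring
  rw [h1, h2, e1, e2]
  ring

/-- `PSL_m(u)`, `m ≥ 4`, first component -/
theorem LWin.not_psl_one (h : LWin T n) {u m g : ℕ} (hu : 2 ≤ u) (hpp : IsPrimePow u) (hm : 4 ≤ m)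
    (hg : g = Nat.gcd m (u - 1))
    (hn : n * g * (u - 1) = u ^ m - 1) (hE : ∃ x : T, orderOf x * g = u ^ (m - 1) - 1)
    (h2 : u = 2 → Odd m → ∃ x : T, orderOf x = 3 * (2 ^ (m - 2) - 1)) : False := by
  have hb := h.big
  have hone : ∀ i, 1 ≤ u ^ i := fun i => Nat.one_le_pow _ _ (by omega)
  obtain ⟨x, hx⟩ := hE
  set e := orderOf x with he
  have hgm : g ∣ m := by rw [hg]; exact Nat.gcd_dvd_left _ _
  have hgu : g ∣ u - 1 := by rw [hg]; exact Nat.gcd_dvd_right _ _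
  have hg0 : 0 < g := Nat.pos_of_dvd_of_pos hgm (by omega)
  rcases Nat.eq_or_lt_of_le hu with hu2 | hu3
  · -- `u = 2`
    subst hu2
    have hg1 : g = 1 := Nat.eq_one_of_dvd_one (by simpa using hgu)
    rw [hg1] at hn
    norm_num at hn
    have hmo : Odd m := by
      rcases Nat.even_or_odd m with h3 | h3
      · exfalso
        apply h.iso.not_three_dvd
        obtain ⟨k, rfl⟩ := h3
        rw [hn, ← two_mul, pow_mul]
        have := Nat.sub_dvd_pow_sub_pow 4 1 k
        rw [one_pow] at this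
        exact this
      · exact h3
    obtain ⟨y, hy⟩ := h2 rfl hmo
    obtain ⟨k, rfl⟩ : ∃ k, m = k + 2 := ⟨m - 2, by omega⟩
    rw [Nat.add_sub_cancel] at hy
    have h4 := hone k
    have h5 : 2 ^ (k + 2) = 4 * 2 ^ k := by ring
    rw [h5] at hn
    have hk0 : k ≠ 0 := by omega
    obtain ⟨j, hj⟩ : Even (2 ^ k) := by
      rw [Nat.even_pow]
      exact ⟨by decide, hk0⟩
    refine h.not_odd ⟨y, hy⟩ ⟨3 * j - 2, by (clear * - h4 hj; omega)⟩ (by omega) (by omega)
  · -- `u ≥ 3`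
    obtain ⟨k, rfl⟩ : ∃ k, m = k + 1 := ⟨m - 1, by omega⟩
    rw [Nat.add_sub_cancel] at hx
    have hgle : g ≤ u - 1 := Nat.le_of_dvd (by omega) hgu
    -- integers
    set U : ℤ := (u : ℤ) with hU
    set X : ℤ := (u : ℤ) ^ k with hX
    set G : ℤ := (g : ℤ) with hG
    have hU3 : 3 ≤ U := by omega
    have hG0 : 0 < G := by omega
    have hGU : G ≤ U - 1 := by omega
    have e1 : (n : ℤ) * G * (U - 1) = U * X - 1 := by
      have h1 : ((n * g * (u - 1) : ℕ) : ℤ) = ((u ^ (k + 1) - 1 : ℕ) : ℤ) := by rw [hn]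
      rw [Nat.cast_mul, Nat.cast_mul, Nat.cast_sub (by omega), Nat.cast_sub (hone _), Nat.cast_pow, Nat.cast_one] at h1
      rw [h1, pow_succ]
      ring
    have e2 : (e : ℤ) * G = X - 1 := by
      have h1 : ((e * g : ℕ) : ℤ) = ((u ^ k - 1 : ℕ) : ℤ) := by rw [hx]
      rw [Nat.cast_mul, Nat.cast_sub (hone _), Nat.cast_pow, Nat.cast_one] at h1
      exact h1
    have hX9 : U ^ 3 ≤ X := pow_le_pow_right₀ (by linarith only [hu3]) (by omega)
    have hX3 : 9 * U ≤ X := by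
      have h9 : 9 ≤ U ^ 2 := by nlinarith only [hu3]
      have h10 : 9 * U ≤ U ^ 2 * U := mul_le_mul_of_nonneg_right h9 (by linarith only [hu3])
      have h11 : U ^ 2 * U = U ^ 3 := by ring
      linarith only [hX9, h10]
    have key : 4 * G * (U - 1) * (U * X - 1) ≤ (X + U - 2) ^ 2 → False := by
      intro hw
      refine h.below (m := e) (c := G * (U - 1)) (A := X + U - 2) ⟨x, rfl⟩
        (mul_pos hG0 (by linarith only [hu3])) (by linarith only [hu3, hX3]) ?_ ?_ ?_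
      · have h1 : G * (U - 1) * (e : ℤ) = (U - 1) * ((e : ℤ) * G) := by ring
        have h3 : G * (U - 1) * (n : ℤ) = n * G * (U - 1) := by ring
        rw [h1, h3, e1, e2]
        ring
      · have h1 : G * (U - 1) * (e : ℤ) = (U - 1) * ((e : ℤ) * G) := by ring
        have h3 : G * (U - 1) * (n : ℤ) = n * G * (U - 1) := by ring
        rw [h1, h3, e1, e2]
        nlinarith only [hu3, hX3]
      · have h1 : 4 * (n : ℤ) * (G * (U - 1)) ^ 2 = 4 * G * (U - 1) * ((n : ℤ) * G * (U - 1)) := by ring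
        rw [h1, e1]
        exact hw
    apply key
    rcases Nat.eq_or_lt_of_le (show 3 ≤ k by omega) with hk3 | hk4
    · -- `m = 4`
      subst hk3
      norm_num only [] at hgm hg
      -- `n g = (u + 1)(u² + 1)`
      have hng : n * g = (u + 1) * (u ^ 2 + 1) := by
        have h5 : u ^ (3 + 1) - 1 = (u + 1) * (u ^ 2 + 1) * (u - 1) := by
          obtain ⟨v, rfl⟩ : ∃ v, u = v + 1 := ⟨u - 1, by (clear * - hu3 h2 key; omega)⟩
          have : (v + 1) ^ (3 + 1) = (v + 1 + 1) * ((v + 1) ^ 2 + 1) * v + 1 := by ring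
          rw [this, Nat.add_sub_cancel, Nat.add_sub_cancel]
        rw [h5] at hn
        exact Nat.eq_of_mul_eq_mul_right (by omega) hn
      rcases Nat.even_or_odd u with hue | huo
      · -- `u` even
        exfalso
        have hg1 : g = 1 := by
          have h6 : Odd (u - 1) := Nat.Even.sub_odd (by omega) hue odd_one
          have h7 : Nat.Coprime 4 (u - 1) := by
            have : (4 : ℕ) = 2 ^ 2 := by norm_num
            rw [this]
            exact Nat.Coprime.pow_left 2 (Nat.coprime_two_left.2 h6)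
          rw [hg]
          exact h7
        rw [hg1, mul_one] at hng
        have h8 := h.mod_dvd (d := u + 1) ⟨_, hng⟩
        have h9 : 3 ∣ u := by omega
        obtain ⟨p, k, hp, hk, hpk⟩ := (isPrimePow_nat_iff _).1 hpp
        have h10 : 2 ∣ p ^ k := by rw [hpk]; exact even_iff_two_dvd.1 hue
        have h11 : 3 ∣ p ^ k := by rw [hpk]; exact h9
        have h12 := (Nat.prime_dvd_prime_iff_eq Nat.prime_two hp).1 (Nat.prime_two.dvd_of_dvd_pow h10)
        have h13 := (Nat.prime_dvd_prime_iff_eq Nat.prime_three hp).1 (Nat.prime_three.dvd_of_dvd_pow h11)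
        omega
      · obtain ⟨a, ha⟩ := huo
        have h6 : n * g = 4 * ((a + 1) * (2 * a ^ 2 + 2 * a + 1)) := by
          rw [hng, ha]
          ring
        have hg4 : g = 4 := by
          apply Nat.dvd_antisymm hgm
          have h3 : Nat.Coprime 4 n := by
            have : (4 : ℕ) = 2 ^ 2 := by norm_num
            rw [this]
            exact Nat.Coprime.pow_left 2 (Nat.coprime_two_left.2 h.iso.odd)
          exact h3.dvd_of_dvd_mul_left ⟨_, h6⟩
        have h7 : n = (a + 1) * (2 * a ^ 2 + 2 * a + 1) := by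
          rw [hg4, mul_comm n 4] at h6
          exact Nat.eq_of_mul_eq_mul_left (by norm_num) h6
        have h8 := h.mod_dvd (d := a + 1) ⟨_, h7⟩
        have h9 : 4 ∣ u - 1 := by
          rw [← hg4]
          exact hgu
        have hu13 : u = 13 ∨ 15 ≤ u := by (clear * - hGU ha hg4 h8 h9; omega)
        rcases hu13 with hu13 | hu15
        · exfalso
          have : a = 6 := by omega
          subst this
          have h10 := h.mod_dvd (d := 5) (by rw [h7]; norm_num)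
          omega
        · have hU15 : 15 ≤ U := by omega
          have hG4 : G = 4 := by omega
          rw [hG4]
          have hXU : X = U ^ 3 := rfl
          rw [hXU]
          have h10 : 4 * 4 * (U - 1) * (U * U ^ 3 - 1) ≤ 16 * (U - 1) * U ^ 4 := by linarith only [hu15]
          refine h10.trans ?_
          have h11 : 16 * (U - 1) * U ^ 4 ≤ U ^ 2 * U ^ 4 := by
            refine mul_le_mul_of_nonneg_right ?_ (by positivity)
            nlinarith only [hu15]
          have h12 : 0 ≤ U ^ 3 := by positivity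
          have h13 : U ^ 3 ≤ U ^ 3 + U - 2 := by linarith only [hu15]
          have h14 : (U ^ 3) ^ 2 ≤ (U ^ 3 + U - 2) ^ 2 := pow_le_pow_left₀ h12 h13 2
          linarith only [h11, h14]
    · -- `m ≥ 5`
      have hX4 : U ^ 4 ≤ X := pow_le_pow_right₀ (by linarith only [hu3]) (by omega)
      have h5 : 4 * G * (U - 1) * (U * X - 1) ≤ 4 * (U - 1) ^ 2 * (U * X) := by
        have h6 : 0 ≤ U * X - 1 := by nlinarith only [hu3, hx, e2]
        have h7 : 4 * G * (U - 1) ≤ 4 * (U - 1) ^ 2 := by nlinarith only [hu, hGU]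
        calc 4 * G * (U - 1) * (U * X - 1) ≤ 4 * (U - 1) ^ 2 * (U * X - 1) := mul_le_mul_of_nonneg_right h7 h6
          _ ≤ _ := by linarith only [sq_nonneg (U - 1)]
      refine h5.trans ?_
      have h8 : 4 * (U - 1) ^ 2 * U ≤ U ^ 4 := by
        have h9 : 4 * (U - 1) ^ 2 ≤ U ^ 3 := by
          nlinarith only [hu3, sq_nonneg (U - 2)]
        calc 4 * (U - 1) ^ 2 * U ≤ U ^ 3 * U := mul_le_mul_of_nonneg_right h9 (by linarith only [hu3])
          _ = U ^ 4 := by ring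
      have hX0 : 0 ≤ X := by linarith only [hu3, hX3]
      have h10 : 4 * (U - 1) ^ 2 * (U * X) ≤ X * X := by
        calc 4 * (U - 1) ^ 2 * (U * X) = (4 * (U - 1) ^ 2 * U) * X := by ring
          _ ≤ X * X := mul_le_mul_of_nonneg_right (h8.trans hX4) hX0
      refine h10.trans ?_
      nlinarith only [hu3, hx, e2]

end

end Cfsg.Agent.R2.Spec.X2
end

-- part: R2/Spec/X2/LCtx
section
prune_inst 0x4101075043c22000000180000920022003000000000008001704006000b0400028040080002000502000430801800000002100050400000000a0034000006000000808400e0b90c08800006000082400000000000020000000000000000000000000000000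
set_option linter.all false
open scoped Cfsg.Agent.FastGrp

/-!
# The spectrum of `PSL_3(q)`, `q` odd, as a window (helper16)
-/

set_option autoImplicit false

namespace Cfsg.Agent.R2.Spec.X2

open Cfsg Cfsg.Agent.H360.Iso

/-- the arithmetic of `PSL_3(q)`, `q = p ^ f` odd -/
structure LA (p f q d N E P : ℕ) : Prop where
  hp : p.Prime
  hp2 : p ≠ 2
  hf : f ≠ 0
  hq : q = p ^ f
  h5 : 5 ≤ q
  hd : (d = 1 ∧ q % 3 ≠ 1) ∨ (d = 3 ∧ q % 3 = 1)
  hN : d * N = q ^ 2 + q + 1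
  hE : d * E = q ^ 2 - 1
  hP : d * P = p * (q - 1)

namespace LA

variable {p f q d N E P : ℕ} (A : LA p f q d N E P)

include A

theorem podd : Odd p := A.hp.odd_of_ne_two A.hp2

theorem qodd : Odd q := by rw [A.hq]; exact A.podd.pow

theorem dvd_q : p ∣ q := by rw [A.hq]; exact dvd_pow_self p A.hf

theorem p_le : p ≤ q := Nat.le_of_dvd (by have := A.h5; omega) A.dvd_q

theorem p3 : 3 ≤ p := by
  obtain ⟨s, hs⟩ := A.podd
  have := A.hp.two_le
  omega

theorem p_cases : p = q ∨ p ^ 2 ≤ q := by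
  by_cases h : f = 1
  · left; rw [A.hq, h, pow_one]
  · right
    rw [A.hq]
    exact Nat.pow_le_pow_right A.hp.pos (by have := A.hf; omega)

theorem d13 : d = 1 ∨ d = 3 := by
  rcases A.hd with h | h
  · exact Or.inl h.1
  · exact Or.inr h.1

theorem dpos : 0 < d := by rcases A.d13 with h | h <;> omega

/-- `q = t + 1`, `t` even -/
theorem exists_t : ∃ t : ℕ, q = 2 * t + 1 ∧ 2 ≤ t ∧ d * N = 4 * t ^ 2 + 6 * t + 3 ∧ d * E = 4 * t ^ 2 + 4 * t ∧
    d * P = p * (2 * t) := by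
  obtain ⟨t, ht⟩ := A.qodd
  have h5 := A.h5
  refine ⟨t, ht, by omega, ?_, ?_, ?_⟩
  · rw [A.hN, ht]; ring
  · rw [A.hE, ht]
    have : (2 * t + 1) ^ 2 = 4 * t ^ 2 + 4 * t + 1 := by ring
    omega
  · rw [A.hP, ht, Nat.add_sub_cancel]

theorem N_mod : N % 3 = 1 := by
  have hN := A.hN
  rcases A.hd with ⟨h1, h2⟩ | ⟨h1, h2⟩
  · rw [h1, one_mul] at hN
    have h3 : q % 3 = 0 ∨ q % 3 = 2 := by omega
    rw [hN, Nat.add_mod, Nat.add_mod (q ^ 2), Nat.pow_mod]
    rcases h3 with h3 | h3 <;> rw [h3]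
  · obtain ⟨j, hj⟩ : ∃ j, q = 3 * j + 1 := ⟨q / 3, by omega⟩
    rw [h1, hj] at hN
    have h3 : 3 * N = 3 * (3 * (j ^ 2 + j) + 1) := by rw [hN]; ring
    omega

theorem N_odd : Odd N := by
  obtain ⟨t, -, -, h1, -, -⟩ := A.exists_t
  have h2 : Odd (d * N) := by
    rw [h1]
    exact ⟨2 * t ^ 2 + 3 * t + 1, by ring⟩
  exact (Nat.odd_mul.1 h2).2

/-- a prime divisor of `N` -/
theorem prime_facts {r : ℕ} (hr : r.Prime) (h : r ∣ N) :
    r ≠ 2 ∧ r ≠ 3 ∧ r ≠ p ∧ ¬ r ∣ q - 1 ∧ ¬ r ∣ q + 1 := by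
  have h5 := A.h5
  have hdN : r ∣ q ^ 2 + q + 1 := by rw [← A.hN]; exact h.mul_left _
  have hr3 : r ≠ 3 := by
    rintro rfl
    have := A.N_mod
    omega
  refine ⟨?_, hr3, ?_, ?_, ?_⟩
  · rintro rfl
    exact (Nat.not_even_iff_odd.2 A.N_odd) (even_iff_two_dvd.2 h)
  · rintro rfl
    have h1 : r ∣ q ^ 2 + q := dvd_add (dvd_pow A.dvd_q (by norm_num)) A.dvd_q
    exact hr.one_lt.ne' (Nat.dvd_one.1 ((Nat.dvd_add_right h1).1 hdN))
  · intro h1
    obtain ⟨k, rfl⟩ : ∃ k, q = k + 1 := ⟨q - 1, by omega⟩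
    rw [Nat.add_sub_cancel] at h1
    have e : (k + 1) ^ 2 + (k + 1) + 1 = k * (k + 3) + 3 := by ring
    rw [e] at hdN
    have h2 := (Nat.dvd_add_right (dvd_mul_of_dvd_left h1 (k + 3))).1 hdN
    exact hr3 ((Nat.prime_dvd_prime_iff_eq hr Nat.prime_three).1 h2)
  · intro h1
    have e : q ^ 2 + q + 1 = q * (q + 1) + 1 := by ring
    rw [e] at hdN
    exact hr.one_lt.ne' (Nat.dvd_one.1 ((Nat.dvd_add_right (dvd_mul_of_dvd_right h1 q)).1 hdN))

theorem sq_sub : q ^ 2 - 1 = (q - 1) * (q + 1) := by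
  have h5 := A.h5
  obtain ⟨k, rfl⟩ : ∃ k, q = k + 1 := ⟨q - 1, by omega⟩
  have : (k + 1) ^ 2 = k * (k + 2) + 1 := by ring
  rw [this, Nat.add_sub_cancel, Nat.add_sub_cancel]

/-- a prime divisor of `N` does not divide the others -/
theorem prime_facts' {r : ℕ} (hr : r.Prime) (h : r ∣ N) : ¬ r ∣ E ∧ ¬ r ∣ P ∧ ¬ r ∣ q - 1 := by
  obtain ⟨-, -, h3, h4, h5⟩ := A.prime_facts hr h
  refine ⟨?_, ?_, h4⟩
  · intro h1
    have h2 : r ∣ (q - 1) * (q + 1) := by
      rw [← A.sq_sub, ← A.hE]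
      exact h1.mul_left _
    rcases hr.dvd_mul.1 h2 with h6 | h6
    · exact h4 h6
    · exact h5 h6
  · intro h1
    have h2 : r ∣ p * (q - 1) := by
      rw [← A.hP]
      exact h1.mul_left _
    rcases hr.dvd_mul.1 h2 with h6 | h6
    · exact h3 ((Nat.prime_dvd_prime_iff_eq hr A.hp).1 h6)
    · exact h4 h6

theorem prime_mod {r : ℕ} (hr : r.Prime) (h : r ∣ N) : r % 3 = 1 := by
  have hf : Fact r.Prime := ⟨hr⟩
  obtain ⟨h2, h3, h4, h5, h6⟩ := A.prime_facts hr h
  have h0 := A.h5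
  have hdN : r ∣ q ^ 2 + q + 1 := by rw [← A.hN]; exact h.mul_left _
  have e0 : ((q : ZMod r)) ^ 2 + q + 1 = 0 := by
    have := (ZMod.natCast_eq_zero_iff (q ^ 2 + q + 1) r).2 hdN
    push_cast at this
    exact this
  have e1 : ((q : ZMod r)) ^ 3 = 1 := by linear_combination ((q : ZMod r) - 1) * e0
  have e2 : ((q : ZMod r)) ≠ 1 := by
    intro h7
    apply h5
    rw [← ZMod.natCast_eq_zero_iff, Nat.cast_sub (by omega), h7]
    simp
  have h7 : orderOf ((q : ZMod r)) = 3 := by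
    have : Fact (Nat.Prime 3) := ⟨Nat.prime_three⟩
    exact orderOf_eq_prime e1 e2
  have h8 : ((q : ZMod r)) ^ (r - 1) = 1 := by
    apply ZMod.pow_card_sub_one_eq_one
    intro h9
    rw [h9, zero_pow (by norm_num)] at e1
    exact zero_ne_one e1
  have h10 : 3 ∣ r - 1 := by
    rw [← h7]
    exact orderOf_dvd_of_pow_eq_one h8
  have := hr.two_le
  omega

theorem N_big (h7 : q ≠ 7) : 31 ≤ N := by
  obtain ⟨t, ht, ht2, h1, -, -⟩ := A.exists_t
  rcases A.hd with ⟨h2, -⟩ | ⟨h2, h3⟩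
  · rw [h2, one_mul] at h1
    nlinarith only [ht2, h1]
  · have ht6 : 6 ≤ t := by
      have h4 : q ≠ 11 := by omega
      have h5 : q ≠ 9 := by omega
      (clear * - h7 ht ht2 h3; omega)
    rw [h2] at h1
    nlinarith only [h1, ht6]

theorem N_gt : 19 ≤ N := by
  by_cases h7 : q = 7
  · rcases A.hd with ⟨h2, h3⟩ | ⟨h2, h3⟩
    · omega
    · have := A.hN
      rw [h2, h7] at this
      omega
  · have := A.N_big h7
    omega

/-- `E < N`, `P < N`, `2 (q - 1) ≤ N` -/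
theorem two_mul_sub_le : 2 * (q - 1) ≤ N := by
  obtain ⟨t, ht, ht2, h1, -, -⟩ := A.exists_t
  rw [ht, Nat.add_sub_cancel]
  rcases A.d13 with h2 | h2
  · rw [h2, one_mul] at h1
    linarith only [h1, _root_.sq_nonneg (↑t : ℤ)]
  · rw [h2] at h1
    nlinarith only [h1]

theorem E_even : Even E := by
  obtain ⟨t, -, -, -, h1, -⟩ := A.exists_t
  have h2 : Even (d * E) := by
    rw [h1]
    exact ⟨2 * t ^ 2 + 2 * t, by ring⟩
  rcases Nat.even_mul.1 h2 with h3 | h3
  · rcases A.d13 with h4 | h4 <;> rw [h4] at h3 <;> exact absurd h3 (by decide)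
  · exact h3

theorem P_even : Even P := by
  obtain ⟨t, -, -, -, -, h1⟩ := A.exists_t
  have h2 : Even (d * P) := by
    rw [h1]
    exact ⟨p * t, by ring⟩
  rcases Nat.even_mul.1 h2 with h3 | h3
  · rcases A.d13 with h4 | h4 <;> rw [h4] at h3 <;> exact absurd h3 (by decide)
  · exact h3

theorem E_pos : 0 < E := by
  obtain ⟨t, -, ht, -, h1, -⟩ := A.exists_t
  rcases Nat.eq_zero_or_pos E with h | h
  · rw [h, mul_zero] at h1
    linarith only [ht, h1, _root_.sq_nonneg (↑t : ℤ)]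
  · exact h

theorem P_pos : 0 < P := by
  obtain ⟨t, -, ht, -, -, h1⟩ := A.exists_t
  have hp := A.hp.pos
  rcases Nat.eq_zero_or_pos P with h | h
  · rw [h, mul_zero] at h1
    nlinarith
  · exact h

/-- `N - E = (q + 2) / d` -/
theorem E_delta : ∃ δ, E + δ = N ∧ d * δ = q + 2 := by
  obtain ⟨t, ht, ht2, h1, h2, -⟩ := A.exists_t
  have h3 : d * N = d * E + (q + 2) := by rw [h1, h2, ht]; ring
  have h4 : E ≤ N := by
    refine Nat.le_of_mul_le_mul_left ?_ A.dpos
    omega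
  refine ⟨N - E, by omega, ?_⟩
  rw [Nat.mul_sub]
  omega

/-- `N - P = (2 q + 1) / d` for `p = q` -/
theorem P_delta (hpq : p = q) : ∃ δ, P + δ = N ∧ d * δ = 2 * q + 1 := by
  obtain ⟨t, ht, ht2, h1, -, h2⟩ := A.exists_t
  have h3 : d * N = d * P + (2 * q + 1) := by rw [h1, h2, hpq, ht]; ring
  have h4 : P ≤ N := by
    refine Nat.le_of_mul_le_mul_left ?_ A.dpos
    omega
  refine ⟨N - P, by omega, ?_⟩
  rw [Nat.mul_sub]
  (clear * - h3; omega)

theorem P_small (hpq : p ≠ q) : 2 * P ≤ N := by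
  have h0 := A.p_cases.resolve_left hpq
  have h3 := A.p3
  obtain ⟨t, ht, ht2, h1, -, h2⟩ := A.exists_t
  have h4 : 3 * p ≤ q := by nlinarith only [h0, h3]
  have h5 : d * (2 * P) ≤ d * N := by
    have : d * (2 * P) = 2 * (d * P) := by ring
    rw [this, h1, h2]
    have h6 : 3 * (2 * (p * (2 * t))) ≤ 3 * (4 * t ^ 2 + 6 * t + 3) := by nlinarith only [ht, h4]
    omega
  exact Nat.le_of_mul_le_mul_left h5 A.dpos

end LA

theorem dvd_cases3 {M m : ℕ} (hM : 0 < M) (h : m ∣ M) : m = M ∨ 2 * m = M ∨ 3 * m ≤ M := by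
  obtain ⟨k, hk⟩ := h
  have hk0 : k ≠ 0 := by
    rintro rfl
    omega
  rcases Nat.lt_or_ge k 3 with h1 | h1
  · have : k = 1 ∨ k = 2 := by omega
    rcases this with rfl | rfl
    · left; omega
    · right; left; omega
  · right; right
    rw [hk]
    nlinarith only [h1]

/-- the situation: a composition factor of a group isospectral to `PSL_3(q)` -/
structure LCtx (T : Type*) [Group T] (p f q d N E P : ℕ) : Prop where
  A : LA p f q d N E P
  iso : IsoN T N
  om : ∀ x : T, orderOf x ∣ N ∨ orderOf x ∣ E ∨ orderOf x ∣ q - 1 ∨ orderOf x ∣ P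

section

variable {T : Type*} [Group T] {p f q d N E P : ℕ}

theorem LCtx.congr {T' : Type*} [Group T'] (h : LCtx T p f q d N E P) (e : T ≃* T') : LCtx T' p f q d N E P := by
  refine ⟨h.A, h.iso.congr e, ?_⟩
  intro x
  have := h.om (e.symm x)
  have h1 : orderOf (e.symm x) = orderOf x := orderOf_injective e.symm.toMonoidHom e.symm.injective x
  rwa [h1] at this

theorem LCtx.win (h : LCtx T p f q d N E P) : LWin T N := by
  have A := h.A
  refine ⟨h.iso, ?_, fun r hr hrn => A.prime_mod hr hrn⟩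
  have hb := h.iso.big
  have h5 := A.h5
  intro x m hx
  have hm := h.om x
  rw [hx] at hm
  rcases hm with hm | hm | hm | hm
  · rcases dvd_cases3 (by omega) hm with h6 | h6 | h6
    · exact Or.inl h6
    · right; left; omega
    · right; left; omega
  · obtain ⟨δ, h1, h2⟩ := A.E_delta
    rcases dvd_cases3 A.E_pos hm with h6 | h6 | h6
    · right; right
      obtain ⟨t, ht, ht2, h7, -, -⟩ := A.exists_t
      refine ⟨δ, ?_, by omega, ?_, by rw [h6]; exact A.E_even⟩
      · rcases A.hd with ⟨h3, -⟩ | ⟨h3, h4⟩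
        · rw [h3] at h2; omega
        · rw [h3] at h2
          have h8 : q ≠ 5 := by omega
          have h9 : q ≠ 6 := by omega
          omega
      · rcases A.d13 with h3 | h3
        · rw [h3, one_mul] at h2 h7
          rw [h2, h7, ht]
          linarith only [_root_.sq_nonneg (↑t : ℤ)]
        · rw [h3] at h2 h7
          nlinarith only [h2, ht, h7]
    · right; left; omega
    · right; left; omega
  · right; left
    have h6 := Nat.le_of_dvd (by omega) hm
    have h7 := A.two_mul_sub_le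
    omega
  · by_cases hpq : p = q
    · obtain ⟨δ, h1, h2⟩ := A.P_delta hpq
      rcases dvd_cases3 A.P_pos hm with h6 | h6 | h6
      · right; right
        obtain ⟨t, ht, ht2, h7, -, -⟩ := A.exists_t
        refine ⟨δ, ?_, by omega, ?_, by rw [h6]; exact A.P_even⟩
        · rcases A.d13 with h3 | h3
          · rw [h3] at h2; omega
          · rw [h3] at h2
            (clear * - h5 h2; omega)
        · rcases A.d13 with h3 | h3
          · rw [h3, one_mul] at h2 h7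
            rw [h2, h7, ht]
            linarith only []
          · rw [h3] at h2 h7
            nlinarith only [h2, ht, h7]
      · right; left; omega
      · right; left; omega
    · right; left
      have h6 := Nat.le_of_dvd A.P_pos hm
      have h7 := A.P_small hpq
      omega

/-- **`PSL_3(u)` in the window of `PSL_3(q)`: `u = q`** -/
theorem LCtx.eq_of_psl (h : LCtx T p f q d N E P) {u : ℕ} (hu : 2 ≤ u)
    (h1 : N * Nat.gcd 3 (u - 1) * (u - 1) = u ^ 3 - 1) (h2 : ∃ x : T, orderOf x * Nat.gcd 3 (u - 1) = u ^ 2 - 1) :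
    u = q := by
  have A := h.A
  obtain ⟨x, hx⟩ := h2
  set e := orderOf x with he
  set g := Nat.gcd 3 (u - 1) with hg
  have hg13 : g = 1 ∨ g = 3 := (Nat.dvd_prime Nat.prime_three).1 (Nat.gcd_dvd_left _ _)
  have h3 : N * g = u ^ 2 + u + 1 := by
    have h4 : u ^ 3 - 1 = (u ^ 2 + u + 1) * (u - 1) := by
      obtain ⟨v, rfl⟩ : ∃ v, u = v + 1 := ⟨u - 1, by omega⟩
      have : (v + 1) ^ 3 = ((v + 1) ^ 2 + (v + 1) + 1) * v + 1 := by ring
      rw [this, Nat.add_sub_cancel, Nat.add_sub_cancel]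
    rw [h4] at h1
    exact Nat.eq_of_mul_eq_mul_right (by omega) h1
  have hb := h.iso.big
  have hu5 : 5 ≤ u := by
    by_contra hcon
    have h5 : N * 1 ≤ N * g := Nat.mul_le_mul_left _ (by omega)
    have h6 : u ^ 2 ≤ 4 ^ 2 := Nat.pow_le_pow_left (by omega) 2
    omega
  have h4 : e * g + (u + 2) = N * g := by
    have h5 : 1 ≤ u ^ 2 := Nat.one_le_pow _ _ (by omega)
    omega
  have h6 : N < 2 * e := by
    have h7 : N * g < 2 * e * g := by
      have h8 : 2 * e * g = 2 * (u ^ 2 - 1) := by rw [← hx]; ring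
      rw [h8, h3]
      have h9 : 5 * u ≤ u ^ 2 := by nlinarith only [hu5]
      omega
    exact lt_of_mul_lt_mul_right h7 (Nat.zero_le _)
  have h7 : e < N := by
    have h8 : e * g < N * g := by omega
    exact lt_of_mul_lt_mul_right h8 (Nat.zero_le _)
  have h0 := A.h5
  have hqo := A.qodd
  have hNq := A.hN
  have hom := h.om x
  rw [← he] at hom
  -- the two possibilities for `e`
  have hcase : (∃ δ, e + δ = N ∧ d * δ = q + 2) ∨ (∃ δ, e + δ = N ∧ d * δ = 2 * q + 1) := by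
    rcases hom with h8 | h8 | h8 | h8
    · exfalso
      rcases dvd_cases3 (by omega) h8 with h9 | h9 | h9 <;> omega
    · left
      obtain ⟨δ, h9, h10⟩ := A.E_delta
      rcases dvd_cases3 A.E_pos h8 with h11 | h11 | h11
      · exact ⟨δ, by omega, h10⟩
      · omega
      · omega
    · exfalso
      have h9 := Nat.le_of_dvd (by omega) h8
      have h10 := A.two_mul_sub_le
      omega
    · by_cases hpq : p = q
      · right
        obtain ⟨δ, h9, h10⟩ := A.P_delta hpq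
        rcases dvd_cases3 A.P_pos h8 with h11 | h11 | h11
        · exact ⟨δ, by omega, h10⟩
        · omega
        · omega
      · exfalso
        have h9 := Nat.le_of_dvd A.P_pos h8
        have h10 := A.P_small hpq
        omega
  have hδ : ∀ δ, e + δ = N → δ * g = u + 2 := by
    intro δ h8
    rw [← h8] at h4
    have h9 : (e + δ) * g = e * g + δ * g := by ring
    omega
  rcases A.d13 with hd | hd <;> rcases hg13 with hg' | hg' <;> rw [hd] at hNq hcase <;> rw [hg'] at h3 hδ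
  · -- `d = 1`, `g = 1`
    have h8 : q ^ 2 + q = u ^ 2 + u := by omega
    nlinarith only [h3, hNq]
  · -- `d = 1`, `g = 3`
    exfalso
    rcases hcase with ⟨δ, h8, h9⟩ | ⟨δ, h8, h9⟩
    · have h10 := hδ δ h8
      have h11 : u = 3 * q + 4 := by (clear * - h9 h10; omega)
      rw [h11] at h3
      linarith only [h3, hNq]
    · have h10 := hδ δ h8
      have h11 : u = 6 * q + 1 := by (clear * - h9 h10; omega)
      rw [h11] at h3
      linarith only [h3, hb, hNq, _root_.sq_nonneg (↑q : ℤ)]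
  · -- `d = 3`, `g = 1`
    exfalso
    rcases hcase with ⟨δ, h8, h9⟩ | ⟨δ, h8, h9⟩
    · have h10 := hδ δ h8
      have h11 : q = 3 * u + 4 := by (clear * - h9 h10; omega)
      rw [h11] at hNq
      linarith only [h3, hNq]
    · have h10 := hδ δ h8
      have h11 : 2 * q = 3 * u + 5 := by (clear * - h9 h10; omega)
      have h12 : 4 * (3 * N) = (2 * q) ^ 2 + 2 * (2 * q) + 4 := by rw [hNq]; ring
      rw [h11] at h12
      have h13 : N = u ^ 2 + u + 1 := by omega
      have h14 : u ^ 2 = 8 * u + 9 := by linarith only [h3, h12]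
      have h15 : u = 9 := by nlinarith only [h3, h12]
      obtain ⟨s, hs⟩ := hqo
      (clear * - h9 h10 h15 hs; omega)
  · -- `d = 3`, `g = 3`
    have h8 : q ^ 2 + q = u ^ 2 + u := by omega
    nlinarith only [h3, hNq]

end

end Cfsg.Agent.R2.Spec.X2
end

-- part: R2/Spec/X2/LElimU
section
prune_inst 0x4101075043c22000000000000b20022003000000000008001714006000304004280400801022004021044b0003000000813000050420000000a0034000006000000828600e0cd0008800006003081580c00000000020000000000000000000000000000000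
set_option linter.all false
open scoped Cfsg.Agent.FastGrp

/-!
# Elimination in the window of `PSL_3(q)`: unitary and orthogonal groups (helper16)
-/

set_option autoImplicit false

namespace Cfsg.Agent.R2.Spec.X2

open Cfsg Cfsg.Agent.H360.Iso Cfsg.Agent.H948.UProd Cfsg.Agent.H948.UMain

section

variable {T : Type*} [Group T] {n : ℕ}

/-- `PSU_m(u)`, first component -/
theorem LWin.not_psu_one (h : LWin T n) {u m g : ℕ} (hu : 2 ≤ u) (hm : 3 ≤ m) (h32 : ¬ (m = 3 ∧ u = 2)) (hg0 : 0 < g)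
    (hn : n * g * (u + 1) = ph u (m - 1)) (hE : ∃ x : T, orderOf x * g = ph u (m - 2)) : False := by
  obtain ⟨x, hx⟩ := hE
  set e := orderOf x with he
  obtain ⟨k, rfl⟩ : ∃ k, m = k + 2 := ⟨m - 2, by omega⟩
  rw [Nat.add_sub_cancel] at hx
  have e0 : k + 2 - 1 = k + 1 := by omega
  rw [e0] at hn
  set U : ℤ := (u : ℤ) with hU
  set X : ℤ := (u : ℤ) ^ (k + 1) with hX
  set G : ℤ := (g : ℤ) with hG
  have hU2 : 2 ≤ U := by omega
  have hG0 : 0 < G := by omega
  have e1 : (n : ℤ) * G * (U + 1) = (ph u (k + 1) : ℤ) := by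
    rw [← hn]
    push_cast
    ring
  have e2 : (e : ℤ) * G = (ph u k : ℤ) := by
    rw [← hx]
    push_cast
    ring
  rw [ph_cast (by omega)] at e1 e2
  have e3 : (u : ℤ) ^ (k + 1 + 1) = U * X := by rw [pow_succ]; ring
  rw [e3] at e1
  have eA : ∀ s : ℤ, (-1 : ℤ) ^ (k + 1 + 1) = s → (-1 : ℤ) ^ (k + 1) = -s → 0 < X + (U + 2) * s → False := by
    intro s h1 h2 h3
    rw [h1] at e1
    rw [h2] at e2
    refine h.above (m := e) (c := G * (U + 1)) (A := X + (U + 2) * s) ⟨x, rfl⟩ (mul_pos hG0 (by linarith only [hu])) h3 ?_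
    have h4 : G * (U + 1) * (e : ℤ) = (U + 1) * ((e : ℤ) * G) := by ring
    have h5 : G * (U + 1) * (n : ℤ) = n * G * (U + 1) := by ring
    rw [h4, h5, e1, e2]
    ring
  rcases Nat.even_or_odd k with hke | hko
  · refine eA 1 (hke.add_one.add_one.neg_one_pow) (hke.add_one.neg_one_pow) ?_
    have : 0 < X := pow_pos (by linarith only [hu]) _
    linarith only [hu, this]
  · refine eA (-1) (hko.add_one.add_one.neg_one_pow) (by rw [hko.add_one.neg_one_pow, neg_neg]) ?_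
    rcases Nat.lt_or_ge k 2 with hk | hk
    · have hk1 : k = 1 := by
        obtain ⟨t, ht⟩ := hko
        omega
      subst hk1
      have hu3 : 3 ≤ U := by
        have : u ≠ 2 := fun hu2 => h32 ⟨rfl, hu2⟩
        omega
      have hXU : X = U ^ 2 := rfl
      nlinarith only [hu3, hXU]
    · have hXU : U ^ 3 ≤ X := pow_le_pow_right₀ (by linarith only [hu]) (by omega)
      have h4 : 4 * U ≤ U ^ 3 := by
        have : 4 ≤ U ^ 2 := by nlinarith only [hu]
        nlinarith only [hu, _root_.sq_nonneg (U : ℤ), _root_.Nat.cast_nonneg (α := ℤ) (u)]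
      linarith only [hu, hXU, h4]

/-- `PSU_m(u)`, second component -/
theorem LWin.not_psu_two (h : LWin T n) {u m : ℕ} (hu : 2 ≤ u) (hm : 4 ≤ m) (hg : u + 1 ∣ m)
    (hn : n * (u + 1) = ph u (m - 2)) (hE : ∃ x : T, orderOf x * (u + 1) ^ 2 = ph u (m - 1)) : False := by
  have hb := h.big
  obtain ⟨x, hx⟩ := hE
  set e := orderOf x with he
  obtain ⟨k, rfl⟩ : ∃ k, m = k + 2 := ⟨m - 2, by omega⟩
  rw [Nat.add_sub_cancel] at hn
  have e0 : k + 2 - 1 = k + 1 := by omega
  rw [e0] at hx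
  set U : ℤ := (u : ℤ) with hU
  set X : ℤ := (u : ℤ) ^ (k + 1) with hX
  have hU2 : 2 ≤ U := by omega
  have e1 : (n : ℤ) * (U + 1) = (ph u k : ℤ) := by
    rw [← hn]
    push_cast
    ring
  have e2 : (e : ℤ) * (U + 1) ^ 2 = (ph u (k + 1) : ℤ) := by
    rw [← hx]
    push_cast
    ring
  have hnk : ∀ s : ℕ, k = s → (n : ℤ) * (U + 1) = (ph u s : ℤ) := by
    intro s hs
    rw [← hs]
    exact e1
  rw [ph_cast (by omega)] at e1 e2
  have e3 : (u : ℤ) ^ (k + 1 + 1) = U * X := by rw [pow_succ]; ring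
  rw [e3] at e2
  -- the general argument
  have key : ∀ s : ℤ, (s = 1 ∨ s = -1) → (-1 : ℤ) ^ (k + 1) = -s → (-1 : ℤ) ^ (k + 1 + 1) = s →
      4 * (U + 1) ^ 3 * (X + s) ≤ (X + (U + 2) * s) ^ 2 → U + 3 < (U - 1) * X → 0 < X + (U + 2) * s → False := by
    intro s hs h1 h2 h3 h4 h5
    rw [h1] at e1
    rw [h2] at e2
    have e1' : (n : ℤ) * (U + 1) = X + s := by rw [e1]; ring
    have hss : s ≤ 1 ∧ -1 ≤ s := by rcases hs with rfl | rfl <;> constructor <;> norm_num
    refine h.below (m := e) (c := (U + 1) ^ 2) (A := X + (U + 2) * s) ⟨x, rfl⟩ (by positivity) h5 ?_ ?_ ?_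
    · have h6 : (U + 1) ^ 2 * (e : ℤ) = (e : ℤ) * (U + 1) ^ 2 := by ring
      have h7 : (U + 1) ^ 2 * (n : ℤ) = (U + 1) * ((n : ℤ) * (U + 1)) := by ring
      rw [h6, h7, e1', e2]
      ring
    · have h6 : (U + 1) ^ 2 * (e : ℤ) = (e : ℤ) * (U + 1) ^ 2 := by ring
      have h7 : (U + 1) ^ 2 * (n : ℤ) = (U + 1) * ((n : ℤ) * (U + 1)) := by ring
      rw [h6, h7, e1', e2]
      have h8 : (U + 3) * s ≤ U + 3 := by nlinarith only [hss, _root_.Nat.cast_nonneg (α := ℤ) (u)]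
      have h9 : 2 * (U * X - s) - (U + 1) * (X + s) = (U - 1) * X - (U + 3) * s := by ring
      linarith only [h4, h8]
    · have h6 : 4 * (n : ℤ) * ((U + 1) ^ 2) ^ 2 = 4 * (U + 1) ^ 3 * ((n : ℤ) * (U + 1)) := by ring
      rw [h6, e1']
      exact h3
  rcases Nat.even_or_odd k with hke | hko
  · -- `m` even
    refine key 1 (Or.inl rfl) (by rw [hke.add_one.neg_one_pow]) (by rw [hke.add_one.add_one.neg_one_pow]) ?_ ?_ ?_
    · -- the inequality
      rcases Nat.lt_or_ge u 4 with hu4 | hu4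
      · have hu23 : u = 2 ∨ u = 3 := by omega
        rcases hu23 with h2 | h3
        · have hk10 : 10 ≤ k := by
            by_contra hcon
            have h4 : k = 4 := by
              obtain ⟨t, ht⟩ := hke
              obtain ⟨s, hs⟩ := hg
              rw [h2] at hs
              omega
            have h5 := hnk 4 h4
            rw [ph_cast (by omega), ← hU] at h5
            have hU' : U = 2 := by omega
            rw [hU'] at h5
            norm_num at h5
            omega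
          have hU' : U = 2 := by omega
          have hX2048 : (2048 : ℤ) ≤ X := by
            rw [hX, ← hU, hU']
            calc (2048 : ℤ) = (2 : ℤ) ^ 11 := by norm_num
              _ ≤ (2 : ℤ) ^ (k + 1) := pow_le_pow_right₀ (by norm_num) (by omega)
          rw [hU']
          nlinarith only [hX2048]
        · have hk6 : 6 ≤ k := by
            by_contra hcon
            have h4 : k = 2 := by
              obtain ⟨t, ht⟩ := hke
              obtain ⟨s, hs⟩ := hg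
              rw [h3] at hs
              omega
            have h5 := hnk 2 h4
            rw [ph_cast (by omega), ← hU] at h5
            have hU' : U = 3 := by omega
            rw [hU'] at h5
            norm_num at h5
            omega
          have hU' : U = 3 := by omega
          have hX2187 : (2187 : ℤ) ≤ X := by
            rw [hX, ← hU, hU']
            calc (2187 : ℤ) = (3 : ℤ) ^ 7 := by norm_num
              _ ≤ (3 : ℤ) ^ (k + 1) := pow_le_pow_right₀ (by norm_num) (by omega)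
          rw [hU']
          nlinarith only [hX2187]
      · have hU4 : 4 ≤ U := by omega
        have hk4 : 4 ≤ k := by
          obtain ⟨t, ht⟩ := hke
          have := Nat.le_of_dvd (by omega) hg
          omega
        have hXU : U ^ 5 ≤ X := pow_le_pow_right₀ (by linarith only [hu4]) (by omega)
        have h1 : 4 * (U + 1) ^ 3 ≤ U ^ 5 := by
          obtain ⟨t, ht⟩ : ∃ t : ℤ, U = 4 + t := ⟨U - 4, by ring⟩
          have ht0 : 0 ≤ t := by linarith only [hu4, ht]
          rw [ht]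
          linarith only [hu4, ht, pow_nonneg ht0 3, pow_nonneg ht0 4, pow_nonneg ht0 5, _root_.sq_nonneg (t : ℤ)]
        have hX0 : 0 ≤ X := by positivity
        have h2 : 4 * (U + 1) ^ 3 * (X + 1) ≤ X * (X + 1) := mul_le_mul_of_nonneg_right (h1.trans hXU) (by linarith only [hX0])
        nlinarith only [hX0, h2, _root_.sq_nonneg (X + (U + 2) * 1 : ℤ), _root_.sq_nonneg (U + 1 : ℤ)]
    · have hXU : U ^ 3 ≤ X := pow_le_pow_right₀ (by linarith only [hu]) (by
        obtain ⟨t, ht⟩ := hke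
        omega)
      have h4 : 4 * U ≤ U ^ 3 := by
        have : 4 ≤ U ^ 2 := by nlinarith only [hu]
        nlinarith only [hu, _root_.sq_nonneg (U : ℤ), _root_.Nat.cast_nonneg (α := ℤ) (u)]
      nlinarith only [hu, hXU, h4]
    · have : 0 < X := pow_pos (by linarith only [hu]) _
      linarith only [hu, this]
  · -- `m` odd
    have hmo : Odd (k + 2) := by
      obtain ⟨t, ht⟩ := hko
      exact ⟨t + 1, by omega⟩
    have hue : Even u := by
      obtain ⟨t, ht⟩ := hg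
      rw [ht] at hmo
      have h1 := (Nat.odd_mul.1 hmo).1
      rcases Nat.even_or_odd u with h2 | h2
      · exact h2
      · exact absurd (h2.add_one) (Nat.not_even_iff_odd.2 h1)
    have hk3 : 3 ≤ k := by
      obtain ⟨t, ht⟩ := hko
      omega
    have hX4 : U ^ 4 ≤ X := pow_le_pow_right₀ (by linarith only [hu]) (by omega)
    have h48 : 8 * U ≤ U ^ 4 := by
      have : 8 ≤ U ^ 3 := by
        calc (8 : ℤ) = 2 ^ 3 := by norm_num
          _ ≤ U ^ 3 := pow_le_pow_left₀ (by norm_num) hU2 3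
      calc 8 * U ≤ U ^ 3 * U := mul_le_mul_of_nonneg_right this (by linarith only [hu])
        _ = U ^ 4 := by ring
    refine key (-1) (Or.inr rfl) (by rw [hko.add_one.neg_one_pow, neg_neg]) (by rw [hko.add_one.add_one.neg_one_pow])
      ?_ ?_ ?_
    · rcases Nat.lt_or_ge u 6 with hu4 | hu4
      · have hu23 : u = 2 ∨ u = 4 := by
          obtain ⟨t, ht⟩ := hue
          omega
        rcases hu23 with h2 | h3
        · have hk7 : 7 ≤ k := by
            obtain ⟨t, ht⟩ := hko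
            obtain ⟨s, hs⟩ := hg
            rw [h2] at hs
            omega
          have hU' : U = 2 := by omega
          have hX256 : (256 : ℤ) ≤ X := by
            rw [hX, ← hU, hU']
            calc (256 : ℤ) = (2 : ℤ) ^ 8 := by norm_num
              _ ≤ (2 : ℤ) ^ (k + 1) := pow_le_pow_right₀ (by norm_num) (by omega)
          rw [hU']
          nlinarith only [hX256]
        · have hk13 : 13 ≤ k := by
            by_contra hcon
            have h4 : k = 3 := by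
              obtain ⟨t, ht⟩ := hko
              obtain ⟨s, hs⟩ := hg
              rw [h3] at hs
              (clear * - hcon ht hs; omega)
            have h5 := hnk 3 h4
            rw [ph_cast (by omega), ← hU] at h5
            have hU' : U = 4 := by omega
            rw [hU'] at h5
            norm_num at h5
            have h6 : n = 51 := by omega
            exact h.iso.not_three_dvd (by rw [h6]; norm_num)
          have hU' : U = 4 := by omega
          have hX4' : (16384 : ℤ) ≤ X := by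
            rw [hX, ← hU, hU']
            calc (16384 : ℤ) = (4 : ℤ) ^ 7 := by norm_num
              _ ≤ (4 : ℤ) ^ (k + 1) := pow_le_pow_right₀ (by norm_num) (by omega)
          rw [hU']
          nlinarith only [hX4']
      · have hU6 : 6 ≤ U := by omega
        have hk4 : 5 ≤ k := by
          have := Nat.le_of_dvd (by omega) hg
          omega
        have hXU : U ^ 6 ≤ X := pow_le_pow_right₀ (by linarith only [hu4]) (by omega)
        have h1 : 4 * (U + 1) ^ 3 ≤ U ^ 5 := by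
          obtain ⟨t, ht⟩ : ∃ t : ℤ, U = 6 + t := ⟨U - 6, by ring⟩
          have ht0 : 0 ≤ t := by linarith only [hu4, ht]
          rw [ht]
          linarith only [hu4, ht, pow_nonneg ht0 3, pow_nonneg ht0 4, pow_nonneg ht0 5, _root_.sq_nonneg (t : ℤ)]
        have hX5 : 6 * U ^ 5 ≤ X := by
          have : 6 * U ^ 5 ≤ U * U ^ 5 := mul_le_mul_of_nonneg_right hU6 (by positivity)
          have h7 : U * U ^ 5 = U ^ 6 := by ring
          linarith only [hXU, this]
        have hX0 : 0 < X := by positivity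
        have h2 : 4 * (U + 1) ^ 3 * (X + -1) ≤ U ^ 5 * X := by
          calc 4 * (U + 1) ^ 3 * (X + -1) ≤ 4 * (U + 1) ^ 3 * X := by
                refine mul_le_mul_of_nonneg_left (by linarith only []) (by positivity)
            _ ≤ _ := mul_le_mul_of_nonneg_right h1 hX0.le
        refine h2.trans ?_
        have h3 : 6 * (U ^ 5 * X) ≤ X * X := by
          calc 6 * (U ^ 5 * X) = 6 * U ^ 5 * X := by ring
            _ ≤ X * X := mul_le_mul_of_nonneg_right hX5 hX0.le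
        have h4 : X ≤ 2 * (X + (U + 2) * -1) := by
          have : 2 * (U + 2) ≤ X := by linarith only [hX4, h48, hu4]
          linarith only [hX4, h48, hu4]
        have h5 : X ^ 2 ≤ (2 * (X + (U + 2) * -1)) ^ 2 := pow_le_pow_left₀ hX0.le h4 2
        linarith only [h3, h5, _root_.sq_nonneg (X + (U + 2) * -1 : ℤ)]
    · nlinarith only [hu, hX4, h48]
    · linarith only [hu, hX4, h48]

/-- unitary groups -/
theorem LWin.not_isPSU (h : LWin T n) : ¬ IsPSU T := by
  rintro ⟨F, _, _, m, u, hF, hm, h32, ⟨e⟩⟩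
  have h' := h.congr e
  have hu : 2 ≤ u := LieClassical.HermBasic.two_le hF
  rcases psu_row hF hm h32 h'.iso with ⟨h1, h2⟩ | ⟨hm4, h0, h1, h2⟩ | ⟨-, -, h1⟩ | ⟨-, -, h1⟩
  · exact h'.not_psu_one hu hm h32 (Nat.gcd_pos_of_pos_left _ (by omega)) h1 h2
  · exact h'.not_psu_two hu hm4 h0 h1 h2
  · have := h'.mod_dvd (d := 5) (by rw [h1]; norm_num)
    omega
  · have := h'.mod_dvd (d := 11) (by rw [h1]; norm_num)
    omega

end

end Cfsg.Agent.R2.Spec.X2
end

-- part: R2/Spec/X4/H4/Gen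
section
prune_inst 0x4101065043c22000000180000b200200030000000004000007040040009440042a041080002000512100410803800000002100040400000000a0034000006000000800402e0080208880006003083180c00000000020000000000000000000000000000000
set_option linter.all false
open scoped Cfsg.Agent.FastGrp

-- part: R2/Spec/X4/H4/Geo
section
/-!
# X4, the rows `L_n`, `U_n` (`n ≥ 4`): the numbers `(U ^ i - 1) / (U - 1)` (helper4)
-/

set_option autoImplicit false

namespace Cfsg.Agent.R2.Spec.X4.H4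

/-- the geometric sum -/
def S (U : ℤ) (i : ℕ) : ℤ := ∑ t ∈ Finset.range i, U ^ t

theorem S_mul (U : ℤ) (i : ℕ) : S U i * (U - 1) = U ^ i - 1 := by
  rw [S]
  exact geom_sum_mul U i

theorem S_one (U : ℤ) : S U 1 = 1 := by simp [S]

theorem S_add (U : ℤ) (m s : ℕ) : S U (m + s) = U ^ m * S U s + S U m := by
  rw [S, S, S, Finset.sum_range_add, Finset.mul_sum, add_comm]
  congr 1
  apply Finset.sum_congr rfl
  intro t _
  rw [pow_add]

theorem S_succ (U : ℤ) (m : ℕ) : S U (m + 1) = U * S U m + 1 := by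
  rw [add_comm m 1, S_add, pow_one, S_one]

theorem S_coprime (U : ℤ) {m : ℕ} (hm : 1 ≤ m) : IsCoprime U (S U m) := by
  obtain ⟨k, rfl⟩ : ∃ k, m = k + 1 := ⟨m - 1, by omega⟩
  rw [S_succ]
  exact ⟨-S U k, 1, by ring⟩

theorem abs_S_mul (U : ℤ) (i : ℕ) : |S U i| * |U - 1| = |U ^ i - 1| := by
  rw [← abs_mul, S_mul]

theorem sub_one_pos {U : ℤ} (hU : 2 ≤ |U|) : 1 ≤ |U - 1| := by
  rcases abs_cases U with ⟨h1, h2⟩ | ⟨h1, h2⟩ <;> rcases abs_cases (U - 1) with ⟨h3, h4⟩ | ⟨h3, h4⟩ <;> omega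

theorem sub_one_le (U : ℤ) : |U - 1| ≤ |U| + 1 := by
  have := abs_sub U 1
  simpa using this

theorem le_sub_one (U : ℤ) : |U| - 1 ≤ |U - 1| := by
  have := abs_sub_abs_le_abs_sub U 1
  simpa only [_root_.tsub_le_iff_right, _root_.ge_iff_le, _root_.abs_one] using this

theorem V_le (U : ℤ) (i : ℕ) : |U ^ i - 1| ≤ |U| ^ i + 1 := by
  have := abs_sub (U ^ i) 1
  rwa [abs_pow, abs_one] at this

theorem le_V (U : ℤ) (i : ℕ) : |U| ^ i - 1 ≤ |U ^ i - 1| := by
  have := abs_sub_abs_le_abs_sub (U ^ i) 1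
  rwa [abs_pow, abs_one] at this

theorem pow_add_le {u : ℤ} (hu : 2 ≤ u) {m s : ℕ} (hm : 1 ≤ m) (hs : 1 ≤ s) (h : 4 ≤ m + s) :
    u ^ m + u ^ s + 3 ≤ u ^ (m + s) := by
  have key : ∀ a b : ℕ, 1 ≤ a → 1 ≤ b → a ≤ b → 4 ≤ a + b → u ^ a + u ^ b + 3 ≤ u ^ (a + b) := by
    intro a b ha hb hab hab4
    rcases Nat.lt_or_ge a 2 with h2 | h2
    · obtain rfl : a = 1 := by omega
      have h3 : u ^ 3 ≤ u ^ b := pow_le_pow_right₀ (by omega) (by omega)
      have h5 : u * 4 ≤ u ^ 3 := by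
        have h6 : (4 : ℤ) ≤ u * u := by nlinarith only [hu]
        calc u * 4 ≤ u * (u * u) := mul_le_mul_of_nonneg_left h6 (by omega)
          _ = u ^ 3 := by ring
      have h7 : 2 * u ^ b ≤ u * u ^ b := mul_le_mul_of_nonneg_right hu (by positivity)
      rw [pow_add, pow_one]
      omega
    · have h3 : u ^ 2 ≤ u ^ a := pow_le_pow_right₀ (by omega) h2
      have h4 : u ^ a ≤ u ^ b := pow_le_pow_right₀ (by omega) hab
      have h5 : (4 : ℤ) ≤ u ^ 2 := by nlinarith only [hu]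
      rw [pow_add]
      nlinarith only [h3, h4, h5]
  rcases le_total m s with h1 | h1
  · exact key m s hm hs h1 h
  · have := key s m hs hm h1 (by omega)
    rw [add_comm s m] at this
    omega

/-- `δ |S_m| |S_s| ≤ 2 |S_{m+s}|` -/
theorem S_mul_le {U : ℤ} (hU : 2 ≤ |U|) {m s : ℕ} (hm : 1 ≤ m) (hs : 1 ≤ s) (h : 4 ≤ m + s) :
    |U - 1| * (|S U m| * |S U s|) ≤ 2 * |S U (m + s)| := by
  have hδ := sub_one_pos hU
  have h1 := abs_S_mul U m
  have h2 := abs_S_mul U s
  have h3 := abs_S_mul U (m + s)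
  have h4 := V_le U m
  have h5 := V_le U s
  have h6 := le_V U (m + s)
  have h7 := pow_add_le hU hm hs h
  have h8 : |U ^ m - 1| * |U ^ s - 1| ≤ (|U| ^ m + 1) * (|U| ^ s + 1) :=
    mul_le_mul h4 h5 (abs_nonneg _) (by positivity)
  have h9 : |U ^ m - 1| * |U ^ s - 1| ≤ 2 * |U ^ (m + s) - 1| := by
    have h10 : (|U| ^ m + 1) * (|U| ^ s + 1) = |U| ^ (m + s) + |U| ^ m + |U| ^ s + 1 := by ring
    linarith only [h6, h7, h8, h10]
  rw [← h1, ← h2, ← h3] at h9
  have h10 : |U - 1| * (|U - 1| * (|S U m| * |S U s|)) ≤ |U - 1| * (2 * |S U (m + s)|) := by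
    linarith only [h9]
  exact le_of_mul_le_mul_left h10 (by omega)

theorem S_ne_zero {U : ℤ} (hU : 2 ≤ |U|) {m : ℕ} (hm : 1 ≤ m) : S U m ≠ 0 := by
  intro h
  have h1 := S_mul U m
  rw [h, zero_mul] at h1
  have h2 : |U| ^ m = 1 := by
    rw [← abs_pow]
    have : U ^ m = 1 := by linarith only [h1]
    rw [this, abs_one]
  have h3 : |U| ^ 1 ≤ |U| ^ m := pow_le_pow_right₀ (by omega) hm
  rw [pow_one] at h3
  omega

theorem exists_sign (x : ℤ) : ∃ σ : ℤ, (σ = 1 ∨ σ = -1) ∧ σ * x = |x| := by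
  rcases abs_cases x with ⟨h, _⟩ | ⟨h, _⟩
  · exact ⟨1, Or.inl rfl, by rw [h, one_mul]⟩
  · exact ⟨-1, Or.inr rfl, by rw [h]; ring⟩

end Cfsg.Agent.R2.Spec.X4.H4
end

-- part: R2/Spec/X4/H4/Gen
section
/-!
# X4, the rows `L_n`, `U_n` (`n ≥ 4`): the two general lemmas (helper4)

`2 C |S_N| = d_n (q³ + d)`, `|S_i| = |U ^ i - 1| / |U - 1|`:

* `zgen` : `z = (q² + 1) / 2` does not divide `S_s`, `s < N`;
* `bgen` : `k' ∣ S_j`, `j < N`, gives `C |S_m| = d_n`, `|S_N| = |S_m| A`, `u ^ m |S_j| = |S_m| B`, `m = N - j`.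
-/

set_option autoImplicit false

namespace Cfsg.Agent.R2.Spec.X4.H4

theorem sub_dvd_two {q d c : ℤ} (hd : d = 1 ∨ d = -1) (h : (q - d) ∣ c * (q * (q ^ 2 + 1))) : (q - d) ∣ 2 * c := by
  have hd2 : d * d = 1 := by rcases hd with rfl | rfl <;> norm_num
  have hd3 : d * d * d = d := by rw [hd2, one_mul]
  have h1 : c * (q * (q ^ 2 + 1)) = (q - d) * (c * (q ^ 2 + q * d + d * d + 1)) + c * (2 * d) := by
    linear_combination c * hd3
  rw [h1] at h
  have h2 : (q - d) ∣ c * (2 * d) := (Int.dvd_add_right (Dvd.intro _ rfl)).1 h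
  have h3 : (q - d) ∣ c * (2 * d) * d := Dvd.dvd.mul_right h2 d
  rwa [show c * (2 * d) * d = 2 * c by linear_combination (2 * c) * hd2] at h3

theorem pow_le_two {U : ℤ} {m : ℕ} (hU : 2 ≤ |U|) (hm : 1 ≤ m) (h : U ^ m ∣ 2) : m = 1 := by
  by_contra hne
  have h1 : |U ^ m| ≤ 2 := Int.le_of_dvd (by norm_num) ((abs_dvd _ _).2 h)
  rw [abs_pow] at h1
  have h2 : |U| ^ 2 ≤ |U| ^ m := pow_le_pow_right₀ (by omega) (by omega)
  nlinarith only [hU, h1, h2]

/-- **The first general lemma.** -/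
theorem zgen {q d U C dn z : ℤ} {m s : ℕ} (hd : d = 1 ∨ d = -1) (hq : 50 ≤ q) (hz : 2 * z = q ^ 2 + 1)
    (hU : 2 ≤ |U|) (hm : 1 ≤ m) (hs : 1 ≤ s) (hms : 4 ≤ m + s) (hC : 0 < C) (hdn : 0 < dn) (hdn' : dn ≤ |U - 1|)
    (h6 : 6 * dn ≤ q) (hE : 2 * C * |S U (m + s)| = dn * (q ^ 3 + d)) (hzs : z ∣ S U s) (hco : IsCoprime U q)
    (hcz : IsCoprime U z) : False := by
  obtain ⟨σ, hσ, hσS⟩ := exists_sign (S U (m + s))
  have hd2 : d * d = 1 := by rcases hd with rfl | rfl <;> norm_num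
  have hσ2 : σ * σ = 1 := by rcases hσ with rfl | rfl <;> norm_num
  have hq0 : 0 < q := by omega
  have hz0 : 0 < z := by linarith only [hz, _root_.sq_nonneg (q : ℤ)]
  have hδ := sub_one_pos hU
  rw [← hσS] at hE
  have hadd := S_add U m s
  -- divisibility
  have h1 : z ∣ 2 * C * σ * S U m + dn * (q - d) := by
    have h2 : 2 * C * σ * S U m + dn * (q - d) = z * (2 * q * dn) - (2 * C * σ * U ^ m) * S U s := by
      rw [hadd] at hE
      linear_combination hE - dn * q * hz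
    rw [h2]
    exact dvd_sub (Dvd.intro _ rfl) (Dvd.dvd.mul_left hzs _)
  -- the bound
  have hSs : z ≤ |S U s| := Int.le_of_dvd (abs_pos.2 (S_ne_zero hU hs)) ((dvd_abs _ _).2 hzs)
  have h3 := S_mul_le hU hm hs hms
  have hqd : q ^ 3 + d ≤ q ^ 3 + 1 := by rcases hd with rfl | rfl <;> omega
  have h4 : |U - 1| * ((2 * C * |S U m|) * z) ≤ |U - 1| * (2 * (q ^ 3 + 1)) := by
    have e1 : |U - 1| * ((2 * C * |S U m|) * z) ≤ |U - 1| * ((2 * C * |S U m|) * |S U s|) := by
      apply mul_le_mul_of_nonneg_left _ (by omega)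
      exact mul_le_mul_of_nonneg_left hSs (by (clear * - hC; positivity))
    have e2 : |U - 1| * ((2 * C * |S U m|) * |S U s|) = (2 * C) * (|U - 1| * (|S U m| * |S U s|)) := by ring
    have e3 : (2 * C) * (|U - 1| * (|S U m| * |S U s|)) ≤ (2 * C) * (2 * |S U (m + s)|) :=
      mul_le_mul_of_nonneg_left h3 (by omega)
    have e4 : (2 * C) * (2 * |S U (m + s)|) = dn * (2 * (q ^ 3 + d)) := by
      rw [← hσS]
      linear_combination 2 * hE
    have e5 : dn * (2 * (q ^ 3 + d)) ≤ dn * (2 * (q ^ 3 + 1)) := mul_le_mul_of_nonneg_left (by omega) (by omega)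
    have e6 : dn * (2 * (q ^ 3 + 1)) ≤ |U - 1| * (2 * (q ^ 3 + 1)) :=
      mul_le_mul_of_nonneg_right hdn' (by positivity)
    omega
  have h5 : (2 * C * |S U m|) * z ≤ 2 * (q ^ 3 + 1) := le_of_mul_le_mul_left h4 (by omega)
  have h7 : 2 * C * |S U m| ≤ 4 * q := by
    by_contra hcon
    rw [not_le] at hcon
    have h8 : (4 * q + 1) * z ≤ (2 * C * |S U m|) * z := mul_le_mul_of_nonneg_right (by omega) (by omega)
    nlinarith only [hq, hz, h5, h8]
  -- equality
  have h8 : 2 * C * σ * S U m + dn * (q - d) = 0 := by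
    apply Int.eq_zero_of_abs_lt_dvd h1
    have e1 : |2 * C * σ * S U m + dn * (q - d)| ≤ |2 * C * σ * S U m| + |dn * (q - d)| := abs_add_le _ _
    have e2 : |2 * C * σ * S U m| = 2 * C * |S U m| := by
      rw [abs_mul, abs_mul, abs_of_pos (by omega : (0 : ℤ) < 2 * C)]
      rcases hσ with rfl | rfl <;> simp
    have e3 : |dn * (q - d)| ≤ dn * (q + 1) := by
      rw [abs_mul, abs_of_pos hdn]
      apply mul_le_mul_of_nonneg_left _ (by omega)
      rcases hd with rfl | rfl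
      · rw [abs_of_pos (by omega)]; omega
      · rw [abs_of_pos (by omega)]; omega
    have e4 : 6 * (dn * (q + 1)) ≤ q * (q + 1) := by nlinarith only [hq, h6]
    nlinarith only [hq, hz, h7, e1, e2, e3, e4]
  -- elimination
  have h9 : S U (m + s) * (q - d) = -(S U m * (q ^ 3 + d)) := by
    have hne : 2 * C * σ * dn ≠ 0 := by
      have hσ0 : σ ≠ 0 := by rintro rfl; simp at hσ2
      have : C ≠ 0 := by omega
      have : dn ≠ 0 := by omega
      simp_all only [_root_.Int.reduceNeg, _root_.dvd_zero, _root_.add_le_add_iff_left, _root_.ne_eq, _root_.mul_eq_zero, _root_.OfNat.ofNat_ne_zero, _root_.or_self, _root_.not_false_eq_true]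
    apply mul_left_cancel₀ hne
    linear_combination (dn * (q - d)) * hE + dn * (q ^ 3 + d) * h8
  have h10 : U ^ m * (S U s * (q - d)) = -(2 * (S U m * (q * z))) := by
    rw [hadd] at h9
    linear_combination h9 + S U m * q * hz
  have h11 : U ^ m ∣ 2 := by
    have c1 : IsCoprime (U ^ m) (S U m * (q * z)) :=
      (((S_coprime U hm).mul_right (hco.mul_right hcz))).pow_left
    have c2 : U ^ m ∣ 2 * (S U m * (q * z)) := by
      rw [← Int.dvd_neg]
      exact ⟨_, h10.symm⟩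
    exact c1.dvd_of_dvd_mul_right c2
  obtain rfl := pow_le_two hU hm h11
  rw [pow_one, S_one, one_mul] at h10
  have h12 : (q - d) ∣ 2 * 1 := by
    apply sub_dvd_two hd
    rw [one_mul]
    refine ⟨-(U * S U s), ?_⟩
    linear_combination h10 - q * hz
  have h13 := Int.le_of_dvd (by norm_num) h12
  rcases hd with rfl | rfl <;> omega

/-- **The second general lemma.** -/
theorem bgen {q d U C dn k' A B : ℤ} {m s : ℕ} (hd : d = 1 ∨ d = -1) (hq : 50 ≤ q) (hA : 2 * A = q ^ 3 + d)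
    (hB : 2 * B = q ^ 3 - d) (hk : q ^ 2 - q + 1 ≤ 3 * k') (hkB : k' ∣ B)
    (hU : 2 ≤ |U|) (hm : 1 ≤ m) (hs : 1 ≤ s) (hms : 4 ≤ m + s) (hC : 0 < C) (hdn : 0 < dn) (hdn' : dn ≤ |U - 1|)
    (h6 : 6 * dn ≤ q) (hE : 2 * C * |S U (m + s)| = dn * (q ^ 3 + d)) (hks : k' ∣ S U s) :
    C * |S U m| = dn ∧ |S U (m + s)| = |S U m| * A ∧ |U| ^ m * |S U s| = |S U m| * B := by
  obtain ⟨σ, hσ, hσS⟩ := exists_sign (S U (m + s))
  have hd2 : d * d = 1 := by rcases hd with rfl | rfl <;> norm_num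
  have hσ2 : σ * σ = 1 := by rcases hσ with rfl | rfl <;> norm_num
  have hq0 : 0 < q := by omega
  have hk0 : 0 < k' := by nlinarith only [hq, hk]
  have hδ := sub_one_pos hU
  rw [← hσS] at hE
  have hadd := S_add U m s
  -- divisibility
  have h1 : k' ∣ C * σ * S U m - dn * d := by
    have h2 : C * σ * S U m - dn * d = dn * B - (C * σ * U ^ m) * S U s := by
      rw [hadd] at hE
      apply mul_left_cancel₀ (two_ne_zero (α := ℤ))
      linear_combination hE - dn * hB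
    rw [h2]
    exact dvd_sub (Dvd.dvd.mul_left hkB _) (Dvd.dvd.mul_left hks _)
  -- the bound
  have hSs : k' ≤ |S U s| := Int.le_of_dvd (abs_pos.2 (S_ne_zero hU hs)) ((dvd_abs _ _).2 hks)
  have h3 := S_mul_le hU hm hs hms
  have hqd : q ^ 3 + d ≤ q ^ 3 + 1 := by rcases hd with rfl | rfl <;> omega
  have h4 : |U - 1| * ((C * |S U m|) * k') ≤ |U - 1| * (q ^ 3 + 1) := by
    have e1 : |U - 1| * ((C * |S U m|) * k') ≤ |U - 1| * ((C * |S U m|) * |S U s|) := by
      apply mul_le_mul_of_nonneg_left _ (by omega)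
      exact mul_le_mul_of_nonneg_left hSs (by (clear * - hC; positivity))
    have e2 : |U - 1| * ((C * |S U m|) * |S U s|) = C * (|U - 1| * (|S U m| * |S U s|)) := by ring
    have e3 : C * (|U - 1| * (|S U m| * |S U s|)) ≤ C * (2 * |S U (m + s)|) :=
      mul_le_mul_of_nonneg_left h3 (by omega)
    have e4 : C * (2 * |S U (m + s)|) = dn * (q ^ 3 + d) := by
      rw [← hσS]
      linear_combination hE
    have e5 : dn * (q ^ 3 + d) ≤ dn * (q ^ 3 + 1) := mul_le_mul_of_nonneg_left (by omega) (by omega)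
    have e6 : dn * (q ^ 3 + 1) ≤ |U - 1| * (q ^ 3 + 1) := mul_le_mul_of_nonneg_right hdn' (by positivity)
    omega
  have h5 : (C * |S U m|) * k' ≤ q ^ 3 + 1 := le_of_mul_le_mul_left h4 (by omega)
  have hX0 : 0 ≤ C * |S U m| := by (clear * - hC; positivity)
  have h7 : C * |S U m| ≤ 3 * (q + 1) := by
    by_contra hcon
    rw [not_le] at hcon
    have h8 : (3 * (q + 1) + 1) * (3 * k') ≤ (C * |S U m|) * (3 * k') :=
      mul_le_mul_of_nonneg_right (by omega) (by omega)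
    have h9 : (3 * (q + 1) + 1) * (q ^ 2 - q + 1) ≤ (3 * (q + 1) + 1) * (3 * k') :=
      mul_le_mul_of_nonneg_left hk (by omega)
    nlinarith only [hq, h5, h8, h9]
  -- equality
  have h8 : C * σ * S U m - dn * d = 0 := by
    apply Int.eq_zero_of_abs_lt_dvd h1
    have e1 : |C * σ * S U m - dn * d| ≤ |C * σ * S U m| + |dn * d| := abs_sub _ _
    have e2 : |C * σ * S U m| = C * |S U m| := by
      rw [abs_mul, abs_mul, abs_of_pos hC]
      rcases hσ with rfl | rfl <;> simp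
    have e3 : |dn * d| = dn := by
      rw [abs_mul, abs_of_pos hdn]
      rcases hd with rfl | rfl <;> simp
    nlinarith only [hq, hk, h6, h7, e1, e2, e3]
  have h9 : C * |S U m| = dn := by
    have e2 : |C * σ * S U m| = C * |S U m| := by
      rw [abs_mul, abs_mul, abs_of_pos hC]
      rcases hσ with rfl | rfl <;> simp
    have e3 : |dn * d| = dn := by
      rw [abs_mul, abs_of_pos hdn]
      rcases hd with rfl | rfl <;> simp
    rw [← e2, ← e3, sub_eq_zero.1 h8]
  have hCσ : C * σ ≠ 0 := by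
    have hσ0 : σ ≠ 0 := by rintro rfl; simp at hσ2
    exact mul_ne_zero (by omega) hσ0
  -- signed relations
  have h10 : S U (m + s) = d * S U m * A := by
    apply mul_left_cancel₀ (mul_ne_zero two_ne_zero hCσ : (2 : ℤ) * (C * σ) ≠ 0)
    linear_combination hE - dn * hA - (d * 2 * A) * h8 + (-2 * A * dn) * hd2
  have h11 : U ^ m * S U s = d * S U m * B := by
    rw [hadd] at h10
    apply mul_left_cancel₀ (two_ne_zero (α := ℤ))
    linear_combination 2 * h10 + (d * S U m) * hA - (d * S U m) * hB + (2 * S U m) * hd2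
  have hdabs : |d| = 1 := by rcases hd with rfl | rfl <;> simp
  have hA0 : 0 ≤ A := by
    have : 0 < q ^ 3 + d := by
      have : 0 < q ^ 3 := by positivity
      rcases hd with rfl | rfl
      · omega
      · nlinarith only [hq, pow_pos hq0 2]
    omega
  have hB0 : 0 ≤ B := by
    have h50 : (1 : ℤ) < q ^ 3 := one_lt_pow₀ (by omega) (by norm_num)
    rcases hd with rfl | rfl <;> (clear * - h50 hB; omega)
  refine ⟨h9, ?_, ?_⟩
  · rw [h10, abs_mul, abs_mul, hdabs, one_mul, abs_of_nonneg hA0]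
  · rw [← abs_pow, ← abs_mul, h11, abs_mul, abs_mul, hdabs, one_mul, abs_of_nonneg hB0]

end Cfsg.Agent.R2.Spec.X4.H4
end

private theorem dce_a96b0a19f907 : _root_.True := by
  try have : _root_.True := by simp only [_root_.Cfsg.Agent.R2.Spec.X4.H4.S.eq_1]
  exact _root_.True.intro
end

-- part: R2/Spec/X4/H10/Num
section
prune_inst 0x4101065043c22000000180000b200200030000000000000017040040001040042a040080102200502104410001800000002100050401000000a003400000600000082c402e0880208880006001083580c00000000000000000000000000000000000000000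
set_option linter.all false
open scoped Cfsg.Agent.FastGrp

/-!
# X4, the symplectic and orthogonal rows: the numeric core (helper10)

`H (u ^ (s + m) + e₁) = g A`, `2 A = q³ + d`, `2 B = q³ - d`:

* `coreB` : `k' ∣ u ^ s + e₂` is impossible;
* `core4` : `(q² + 1) / 2 ∣ u ^ s + e₂` is impossible.
-/

set_option autoImplicit false

namespace Cfsg.Agent.R2.Spec.X4.H10

theorem eq_zero_of_dvd_abs {a x : ℤ} (h : a ∣ x) (h1 : |x| < a) : x = 0 := by
  by_contra hne
  have h2 := Int.le_of_dvd (abs_pos.2 hne) ((dvd_abs _ _).2 h)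
  omega

/-- an even multiple of an odd number -/
theorem eq_zero_of_dvd_even {a x : ℤ} (h : a ∣ x) (ha : a % 2 = 1) (hx : x % 2 = 0) (h1 : |x| < 2 * a) : x = 0 := by
  apply eq_zero_of_dvd_abs (a := 2 * a) _ h1
  obtain ⟨c, rfl⟩ := h
  rw [Int.mul_emod, ha, one_mul, Int.emod_emod_of_dvd _ (dvd_refl 2)] at hx
  obtain ⟨b, rfl⟩ := Int.dvd_of_emod_eq_zero hx
  exact ⟨b, by ring⟩

/-- cubes modulo 9 -/
theorem cube_nine (q : ℤ) : q ^ 3 % 9 = 0 ∨ q ^ 3 % 9 = 1 ∨ q ^ 3 % 9 = 8 := by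
  have h : q % 9 = 0 ∨ q % 9 = 1 ∨ q % 9 = 2 ∨ q % 9 = 3 ∨ q % 9 = 4 ∨ q % 9 = 5 ∨ q % 9 = 6 ∨ q % 9 = 7 ∨ q % 9 = 8 := by
    omega
  rcases h with h | h | h | h | h | h | h | h | h <;> simp [pow_succ, Int.mul_emod, h]

theorem cube_seven (q : ℤ) : (q % 7 = 0 ∧ q ^ 3 % 7 = 0) ∨ q ^ 3 % 7 = 1 ∨ q ^ 3 % 7 = 6 := by
  have h : q % 7 = 0 ∨ q % 7 = 1 ∨ q % 7 = 2 ∨ q % 7 = 3 ∨ q % 7 = 4 ∨ q % 7 = 5 ∨ q % 7 = 6 := by
    omega
  rcases h with h | h | h | h | h | h | h <;> simp [pow_succ, Int.mul_emod, h]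

theorem two_pow_seven (j : ℕ) : (2 : ℤ) ^ j % 7 = 1 ∨ (2 : ℤ) ^ j % 7 = 2 ∨ (2 : ℤ) ^ j % 7 = 4 := by
  induction j with
  | zero => simp
  | succ j ih => rw [pow_succ]; omega

theorem sq_four {q : ℤ} (hq : q % 2 = 1) : q ^ 3 % 2 = 1 ∧ (q % 4 = 1 → q ^ 3 % 4 = 1) ∧ (q % 4 = 3 → q ^ 3 % 4 = 3) := by
  have h : q % 4 = 1 ∨ q % 4 = 3 := by omega
  have h2 : (q % 4 = 1 → q ^ 3 % 4 = 1) ∧ (q % 4 = 3 → q ^ 3 % 4 = 3) := by
    constructor <;> intro h <;> simp [pow_succ, Int.mul_emod, h]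
  refine ⟨?_, h2⟩
  rcases h with h | h
  · have := h2.1 h; omega
  · have := h2.2 h; omega

theorem cube_eight {q : ℤ} (h : q ^ 3 % 8 = 3) : q % 8 = 3 := by
  have h1 : q % 8 = 0 ∨ q % 8 = 1 ∨ q % 8 = 2 ∨ q % 8 = 3 ∨ q % 8 = 4 ∨ q % 8 = 5 ∨ q % 8 = 6 ∨ q % 8 = 7 := by
    omega
  rcases h1 with h1 | h1 | h1 | h1 | h1 | h1 | h1 | h1 <;> first | exact h1 | (exfalso; simp [pow_succ, Int.mul_emod, h1] at h)

/-- bounds for `P = H (V + 1)` -/
theorem bound_two {H U V X : ℤ} (hH : 0 < H) (hU : 1 ≤ U) (hV : 2 ≤ V) (h : H * (U * V - 1) ≤ X) :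
    H * (V + 1) * (2 * U - 1) ≤ 3 * X := by
  have h1 : 0 ≤ H * ((U + 1) * (V - 2)) := mul_nonneg hH.le (mul_nonneg (by omega) (by omega))
  linarith only [h, h1]

theorem bound_three {H U V X : ℤ} (hH : 0 < H) (hU : 1 ≤ U) (hV : 3 ≤ V) (h : H * (U * V - 1) ≤ X) :
    H * (V + 1) * (3 * U - 1) ≤ 4 * X := by
  have h1 : 0 ≤ H * ((U + 1) * (V - 3)) := mul_nonneg hH.le (mul_nonneg (by omega) (by omega))
  linarith only [h, h1]

theorem odd_pow {u : ℤ} (hu : u % 2 = 1) (m : ℕ) : u ^ m % 2 = 1 := by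
  induction m with
  | zero => simp
  | succ m ih => rw [pow_succ, Int.mul_emod, ih, hu]; rfl

theorem one_le_pow' {u : ℤ} (hu : 2 ≤ u) (m : ℕ) : 1 ≤ u ^ m := one_le_pow₀ (by omega)

/-- `u ^ m` is `1`, or at least `u` -/
theorem pow_cases {u : ℤ} (hu : 2 ≤ u) (m : ℕ) : m = 0 ∨ (1 ≤ m ∧ u ≤ u ^ m) := by
  rcases Nat.eq_zero_or_pos m with h | h
  · exact Or.inl h
  · exact Or.inr ⟨h, le_self_pow₀ (by omega) (by omega)⟩

theorem pow_eq_prime {u : ℤ} (hu : 2 ≤ u) {m : ℕ} {c : ℕ} (hc : c.Prime) (h : u ^ m = c) : m = 1 ∧ u = c := by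
  obtain ⟨w, rfl⟩ : ∃ w : ℕ, u = w := ⟨u.toNat, (Int.toNat_of_nonneg (by omega)).symm⟩
  have h1 : w ^ m = c := by exact_mod_cast h
  have h2 : m ≠ 0 := by rintro rfl; rw [pow_zero] at h1; exact hc.one_lt.ne h1
  have h3 : w ∣ c := by rw [← h1]; exact dvd_pow_self w h2
  rcases (Nat.dvd_prime hc).1 h3 with h4 | h4
  · omega
  · subst h4
    refine ⟨?_, rfl⟩
    exact Nat.pow_right_injective (show 2 ≤ w by omega) (by simpa using h1)

section poly

variable {q : ℤ}

theorem exists_add (hq : 17 ≤ q) : ∃ x : ℕ, q = x + 17 := ⟨(q - 17).toNat, by omega⟩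

theorem poly1 (hq : 17 ≤ q) : 3 * (q ^ 3 + 1) < (q ^ 2 - q - 2) * (q ^ 2 - q - 1) := by
  obtain ⟨x, rfl⟩ := exists_add hq
  have : 0 < (((x : ℤ) + 17) ^ 2 - (x + 17) - 2) * ((x + 17) ^ 2 - (x + 17) - 1) - 3 * ((x + 17) ^ 3 + 1) := by
    ring_nf; positivity
  linarith

theorem poly2 (hq : 17 ≤ q) : 27 * (q ^ 3 + 1) < 2 * (q ^ 2 - q - 2) * (2 * q ^ 2 - 2 * q - 7) := by
  obtain ⟨x, rfl⟩ := exists_add hq
  have : 0 < 2 * (((x : ℤ) + 17) ^ 2 - (x + 17) - 2) * (2 * (x + 17) ^ 2 - 2 * (x + 17) - 7) - 27 * ((x + 17) ^ 3 + 1) := by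
    ring_nf; positivity
  linarith

theorem poly3 (hq : 17 ≤ q) : 12 * (q ^ 3 + 1) < (2 * (q ^ 2 - q + 1) - 12) * (q ^ 2 - q - 1) := by
  obtain ⟨x, rfl⟩ := exists_add hq
  have : 0 < (2 * (((x : ℤ) + 17) ^ 2 - (x + 17) + 1) - 12) * ((x + 17) ^ 2 - (x + 17) - 1) - 12 * ((x + 17) ^ 3 + 1) := by
    ring_nf; positivity
  linarith

theorem poly4 (hq : 17 ≤ q) : 24 * (q ^ 3 + 1) < (2 * (q ^ 2 - q + 1) - 12) * (q ^ 2 - q + 1 - 4) := by
  obtain ⟨x, rfl⟩ := exists_add hq
  have : 0 < (2 * (((x : ℤ) + 17) ^ 2 - (x + 17) + 1) - 12) * ((x + 17) ^ 2 - (x + 17) + 1 - 4) - 24 * ((x + 17) ^ 3 + 1) := by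
    ring_nf; positivity
  linarith

theorem poly5 (hq : 17 ≤ q) : 4 * (q ^ 3 + 1) < (q ^ 2 - q) * (q ^ 2 - 3) := by
  obtain ⟨x, rfl⟩ := exists_add hq
  have : 0 < (((x : ℤ) + 17) ^ 2 - (x + 17)) * ((x + 17) ^ 2 - 3) - 4 * ((x + 17) ^ 3 + 1) := by
    ring_nf; positivity
  linarith

theorem poly6 (hq : 17 ≤ q) : 3 * (q ^ 3 + 1) < (q ^ 2 - q) * (q ^ 2 - 2) := by
  obtain ⟨x, rfl⟩ := exists_add hq
  have : 0 < (((x : ℤ) + 17) ^ 2 - (x + 17)) * ((x + 17) ^ 2 - 2) - 3 * ((x + 17) ^ 3 + 1) := by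
    ring_nf; positivity
  linarith

theorem poly7 (hq : 17 ≤ q) : 8 * (q ^ 3 + 1) < (q ^ 2 - 2 * q - 1) * (q ^ 2 - 3) := by
  obtain ⟨x, rfl⟩ := exists_add hq
  have : 0 < (((x : ℤ) + 17) ^ 2 - 2 * (x + 17) - 1) * ((x + 17) ^ 2 - 3) - 8 * ((x + 17) ^ 3 + 1) := by
    ring_nf; positivity
  linarith

theorem poly8 (hq : 17 ≤ q) : 16 * (q ^ 3 + 1) < (q ^ 2 - 2 * q - 1) * (3 * q ^ 2 - 5) := by
  obtain ⟨x, rfl⟩ := exists_add hq
  have : 0 < (((x : ℤ) + 17) ^ 2 - 2 * (x + 17) - 1) * (3 * (x + 17) ^ 2 - 5) - 16 * ((x + 17) ^ 3 + 1) := by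
    ring_nf; positivity
  linarith

end poly

section

variable {q d A B k' u g H e1 e2 : ℤ} {s m : ℕ}

/-- the end of the `b`-case -/
theorem endB (hd : d = 1 ∨ d = -1) (hqd : q % 4 = d % 4) (hB : 2 * B = q ^ 3 - d) (hu : 2 ≤ u)
    (he1 : e1 = 1 ∨ e1 = -1) (he2 : e2 = 1 ∨ e2 = -1) (hg : g = 1 ∨ g = 2 ∨ g = 4) (hs : 1 ≤ s)
    (hp1 : e1 = -1 → (s + m) % 2 = 1) (hp2 : e2 = -1 → s % 2 = 1) (hne : u ^ s ≠ q ^ 3)
    (h7 : 7 ∣ q → q % 8 = 7 ∨ q % 8 = 1) (hV : e2 * u ^ m = e1 - g * d) (hU : u ^ m * (u ^ s + e2) = g * B) : False := by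
  have hq2 : q % 2 = 1 := by rcases hd with rfl | rfl <;> omega
  obtain ⟨hc1, hc2, hc3⟩ := sq_four hq2
  have hV1 := one_le_pow' hu m
  -- the values of `u ^ m`
  have hu9 : u = 3 → u ^ s % 3 = 0 := by
    rintro rfl
    obtain ⟨j, rfl⟩ : ∃ j, s = j + 1 := ⟨s - 1, by omega⟩
    rw [pow_succ]
    omega
  have hc9 := cube_nine q
  have p2 : ∀ {c : ℕ}, c.Prime → u ^ m = c → m = 1 ∧ u = c := fun hc h => pow_eq_prime hu hc h
  rcases hg with rfl | rfl | rfl
  · -- `g = 1` : `u ^ m = 2`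
    have h2 : u ^ m = 2 ∧ e1 = -d ∧ e2 = -d := by
      rcases hd with rfl | rfl <;> rcases he1 with rfl | rfl <;> rcases he2 with rfl | rfl <;> (clear * - hV1 hV; omega)
    obtain ⟨h2, rfl, rfl⟩ := h2
    obtain ⟨rfl, hu2⟩ := p2 Nat.prime_two (by exact_mod_cast h2)
    have hu2' : u = 2 := by exact_mod_cast hu2
    subst hu2'
    rcases hd with rfl | rfl
    · have := hp1 rfl
      have := hp2 rfl
      omega
    · -- `q³ = 2 ^ (s + 2) + 3`
      have h3 : q ^ 3 = 2 ^ (s + 2) + 3 := by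
        rw [pow_add]
        rw [h2] at hU
        linarith only [hB, hU]
      have h4 := two_pow_seven (s + 2)
      have h5 := cube_seven q
      have h6 : q % 7 = 0 := by (clear * - h3 h4 h5; omega)
      have h8 : (2 : ℤ) ^ (s + 2) % 8 = 0 := by
        obtain ⟨j, rfl⟩ : ∃ j, s = j + 1 := ⟨s - 1, by omega⟩
        rw [show j + 1 + 2 = j + 3 by ring, pow_add]
        omega
      have h9 := cube_eight (q := q) (by (clear * - h3 h8; omega))
      have := h7 (Int.dvd_of_emod_eq_zero h6)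
      (clear * - h9 this; omega)
  · -- `g = 2`
    have h2 : (u ^ m = 1 ∧ e1 = d ∧ e2 = -d) ∨ (u ^ m = 3 ∧ e1 = -d ∧ e2 = -d) := by
      rcases hd with rfl | rfl <;> rcases he1 with rfl | rfl <;> rcases he2 with rfl | rfl <;> (clear * - hV1 hV; omega)
    rcases h2 with ⟨h2, -, rfl⟩ | ⟨h2, rfl, rfl⟩
    · apply hne
      rw [h2] at hU
      linarith only [hB, hU]
    · obtain ⟨rfl, hu3⟩ := p2 Nat.prime_three (by exact_mod_cast h2)
      have hu3' : u = 3 := by exact_mod_cast hu3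
      have h4 := hu9 hu3'
      rw [h2] at hU
      rcases hd with rfl | rfl <;> (clear * - hp2 hp1 hc9 h4 hB hU; omega)
  · -- `g = 4`
    have h2 : (u ^ m = 3 ∧ e1 = d ∧ e2 = -d) ∨ (u ^ m = 5 ∧ e1 = -d ∧ e2 = -d) := by
      rcases hd with rfl | rfl <;> rcases he1 with rfl | rfl <;> rcases he2 with rfl | rfl <;> (clear * - hV1 hV; omega)
    rcases h2 with ⟨h2, -, rfl⟩ | ⟨h2, rfl, rfl⟩
    · obtain ⟨rfl, hu3⟩ := p2 Nat.prime_three (by exact_mod_cast h2)
      have hu3' : u = 3 := by exact_mod_cast hu3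
      have h4 := hu9 hu3'
      rw [h2] at hU
      rcases hd with rfl | rfl <;> (clear * - hc9 h4 hB hU; omega)
    · obtain ⟨rfl, hu5⟩ := p2 Nat.prime_five (by exact_mod_cast h2)
      have hu5' : u = 5 := by exact_mod_cast hu5
      subst hu5'
      rcases hd with rfl | rfl
      · have := hp1 rfl
        have := hp2 rfl
        omega
      · -- `2 q³ = 5 U + 3`, modulo 4
        have h6 : (5 : ℤ) ^ s % 4 = 1 := by
          have : ∀ j : ℕ, (5 : ℤ) ^ j % 4 = 1 := by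
            intro j
            induction j with
            | zero => simp
            | succ j ih => rw [pow_succ]; omega
          exact this s
        rw [h2] at hU
        omega

/-- **The `b`-case.** -/
theorem coreB (hd : d = 1 ∨ d = -1) (hq : 17 ≤ q) (hqd : q % 4 = d % 4) (hA : 2 * A = q ^ 3 + d)
    (hB : 2 * B = q ^ 3 - d) (hk3 : q ^ 2 - q + 1 ≤ 3 * k') (hkB : k' ∣ B) (hk2 : k' % 2 = 1) (hu : 2 ≤ u)
    (he1 : e1 = 1 ∨ e1 = -1) (he2 : e2 = 1 ∨ e2 = -1) (hg : g = 1 ∨ g = 2 ∨ g = 4) (hgu : g = 1 ∨ u % 2 = 1)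
    (hH : 0 < H) (hE : H * (u ^ (s + m) + e1) = g * A) (hks : k' ∣ u ^ s + e2) (hs : 1 ≤ s)
    (hm0 : m = 0 → e1 = -e2 ∧ q ^ 2 - q ≤ u ^ s)
    (hp1 : e1 = -1 → (s + m) % 2 = 1) (hp2 : e2 = -1 → s % 2 = 1) (hne : u ^ s ≠ q ^ 3)
    (h7 : 7 ∣ q → q % 8 = 7 ∨ q % 8 = 1) : False := by
  have hV1 := one_le_pow' hu m
  have hU1 := one_le_pow' hu s
  have hk0 : 0 < k' := by nlinarith only [hk3]
  have hUk : k' ≤ u ^ s + e2 := by
    refine Int.le_of_dvd ?_ hks
    have := (le_self_pow₀ (by omega : 1 ≤ u) (by omega) : u ≤ u ^ s)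
    (clear * - hu he2 this; omega)
  have hpm : u ^ (s + m) = u ^ s * u ^ m := pow_add u s m
  rw [hpm] at hE
  set U := u ^ s with hUd
  set V := u ^ m with hVd
  -- divisibility
  have h1 : k' ∣ H * (e1 - e2 * V) - g * d := by
    have h2 : H * (e1 - e2 * V) - g * d = g * B - (H * V) * (U + e2) := by
      have : 2 * (H * (e1 - e2 * V) - g * d) = 2 * (g * B - (H * V) * (U + e2)) := by
        linear_combination 2 * hE + g * hA - g * hB
      linarith only [this]
    rw [h2]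
    exact dvd_sub (Dvd.dvd.mul_left hkB _) (Dvd.dvd.mul_left hks _)
  -- the bound
  have hgA : 2 * (g * A) ≤ g * (q ^ 3 + 1) := by
    rcases hg with rfl | rfl | rfl <;> rcases hd with rfl | rfl <;> linarith only [hA]
  have hX : H * (U * V - 1) ≤ g * A := by
    rw [← hE]
    apply mul_le_mul_of_nonneg_left _ hH.le
    rcases he1 with rfl | rfl <;> omega
  have habs : |H * (e1 - e2 * V) - g * d| ≤ H * (V + 1) + g := by
    have e1' : |H * (e1 - e2 * V) - g * d| ≤ |H * (e1 - e2 * V)| + |g * d| := abs_sub _ _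
    have e2' : |H * (e1 - e2 * V)| ≤ H * (V + 1) := by
      rw [abs_mul, abs_of_pos hH]
      apply mul_le_mul_of_nonneg_left _ hH.le
      rw [abs_le]
      rcases he1 with rfl | rfl <;> rcases he2 with rfl | rfl <;> (clear * - hV1; omega)
    have e3' : |g * d| ≤ g := by
      rw [abs_le]
      rcases hg with rfl | rfl | rfl <;> rcases hd with rfl | rfl <;> omega
    linarith only [e1', e2', e3']
  have hmain : H * (e1 - e2 * V) - g * d = 0 := by
    have hp : m = 0 ∨ 1 ≤ m ∧ u ≤ V := pow_cases hu m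
    rcases hg with rfl | hg
    · -- `g = 1`
      refine eq_zero_of_dvd_abs h1 (lt_of_le_of_lt habs ?_)
      by_contra hcon
      rw [not_lt] at hcon
      rcases hp with hm | ⟨-, hm⟩
      · obtain ⟨-, h3⟩ := hm0 hm
        have hV : V = 1 := by rw [hVd, hm, pow_zero]
        rw [hV] at hX hcon
        have h4 : 2 * H * (q ^ 2 - q - 1) ≤ q ^ 3 + 1 := by
          have : H * (q ^ 2 - q - 1) ≤ H * (U * 1 - 1) := mul_le_mul_of_nonneg_left (by linarith only [h3]) hH.le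
          linarith only [hgA, hX, this]
        have h5 : (3 * k' - 3) * (q ^ 2 - q - 1) ≤ 3 * (q ^ 3 + 1) := by
          have h6 : (3 * k' - 3) * (q ^ 2 - q - 1) ≤ (3 * (2 * H)) * (q ^ 2 - q - 1) :=
            mul_le_mul_of_nonneg_right (by linarith only [hcon]) (by nlinarith only [hq])
          linarith only [h4, h6]
        have h7 : (q ^ 2 - q - 2) * (q ^ 2 - q - 1) ≤ (3 * k' - 3) * (q ^ 2 - q - 1) :=
          mul_le_mul_of_nonneg_right (by linarith only [hk3]) (by nlinarith only [hq])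
        linarith only [h5, h7, poly1 hq]
      · have h3 := bound_two hH hU1 (by omega : 2 ≤ V) hX
        have h4 : H * (V + 1) * (2 * k' - 3) ≤ H * (V + 1) * (2 * U - 1) :=
          mul_le_mul_of_nonneg_left (by rcases he2 with rfl | rfl <;> (clear * - hUk; omega)) (by positivity)
        have h5 : 2 * (k' - 1) * (2 * k' - 3) ≤ 3 * (q ^ 3 + 1) := by
          have h6 : 2 * (k' - 1) * (2 * k' - 3) ≤ 2 * (H * (V + 1)) * (2 * k' - 3) :=
            mul_le_mul_of_nonneg_right (by linarith only [hcon]) (by nlinarith only [hq, hk3])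
          linarith only [hgA, h3, h4, h6]
        have h6 : 2 * (q ^ 2 - q - 2) * (2 * q ^ 2 - 2 * q - 7) ≤ 2 * (3 * k' - 3) * (6 * k' - 9) := by
          have a1 : 2 * (q ^ 2 - q - 2) ≤ 2 * (3 * k' - 3) := by linarith only [hk3]
          have a2 : 2 * q ^ 2 - 2 * q - 7 ≤ 6 * k' - 9 := by linarith only [hk3]
          exact mul_le_mul a1 a2 (by nlinarith only [hq]) (by linarith only [hk0])
        linarith only [h5, h6, poly2 hq]
    · -- `g` even
      have hu2 : u % 2 = 1 := by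
        rcases hgu with h | h
        · rcases hg with rfl | rfl <;> omega
        · exact h
      have hVo : V % 2 = 1 := odd_pow hu2 m
      have hev : (H * (e1 - e2 * V) - g * d) % 2 = 0 := by
        have a1 : (e1 - e2 * V) % 2 = 0 := by rcases he1 with rfl | rfl <;> rcases he2 with rfl | rfl <;> (clear * - hVo; omega)
        obtain ⟨b, hb⟩ := Int.dvd_of_emod_eq_zero a1
        have a2 : (g * d) % 2 = 0 := by
          rcases hg with rfl | rfl <;> rcases hd with rfl | rfl <;> (clear * -; omega)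
        rw [hb, show H * (2 * b) = 2 * (H * b) by ring]
        (clear * - a2; omega)
      refine eq_zero_of_dvd_even h1 hk2 hev (lt_of_le_of_lt habs ?_)
      by_contra hcon
      rw [not_lt] at hcon
      have hg4 : g ≤ 4 := by omega
      have hg0 : 0 ≤ g := by omega
      have hq3 : 0 ≤ q ^ 3 + 1 := by positivity
      have hg8 : g * (q ^ 3 + 1) ≤ 4 * (q ^ 3 + 1) := mul_le_mul_of_nonneg_right hg4 hq3
      rcases hp with hm | ⟨-, hm⟩
      · obtain ⟨-, h3⟩ := hm0 hm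
        have hV : V = 1 := by rw [hVd, hm, pow_zero]
        rw [hV] at hX hcon
        have h4 : 2 * H * (q ^ 2 - q - 1) ≤ 4 * (q ^ 3 + 1) := by
          have : H * (q ^ 2 - q - 1) ≤ H * (U * 1 - 1) := mul_le_mul_of_nonneg_left (by linarith only [h3]) hH.le
          linarith only [hgA, hX, hg8, this]
        have h5 : (2 * (3 * k') - 12) * (q ^ 2 - q - 1) ≤ 12 * (q ^ 3 + 1) := by
          have h6 : (2 * (3 * k') - 12) * (q ^ 2 - q - 1) ≤ (3 * (2 * H)) * (q ^ 2 - q - 1) :=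
            mul_le_mul_of_nonneg_right (by linarith only [hcon, hg4]) (by nlinarith only [hq])
          linarith only [h4, h6]
        have h7 : (2 * (q ^ 2 - q + 1) - 12) * (q ^ 2 - q - 1) ≤ (2 * (3 * k') - 12) * (q ^ 2 - q - 1) :=
          mul_le_mul_of_nonneg_right (by linarith only [hk3]) (by nlinarith only [hq])
        linarith only [h5, h7, poly3 hq]
      · have hV3 : 3 ≤ V := by omega
        have h3 := bound_three hH hU1 hV3 hX
        have h4 : H * (V + 1) * (3 * k' - 4) ≤ H * (V + 1) * (3 * U - 1) :=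
          mul_le_mul_of_nonneg_left (by rcases he2 with rfl | rfl <;> (clear * - hUk; omega)) (by positivity)
        have h5 : (2 * k' - 4) * (3 * k' - 4) ≤ 8 * (q ^ 3 + 1) := by
          have h6 : (2 * k' - 4) * (3 * k' - 4) ≤ (H * (V + 1)) * (3 * k' - 4) :=
            mul_le_mul_of_nonneg_right (by linarith only [hcon, hg4]) (by nlinarith only [hq, hk3])
          linarith only [hgA, hg8, h3, h4, h6]
        have h6 : (2 * (q ^ 2 - q + 1) - 12) * (q ^ 2 - q + 1 - 4) ≤ (2 * (3 * k') - 12) * (3 * k' - 4) := by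
          have a1 : 2 * (q ^ 2 - q + 1) - 12 ≤ 2 * (3 * k') - 12 := by linarith only [hk3]
          have a2 : q ^ 2 - q + 1 - 4 ≤ 3 * k' - 4 := by linarith only [hk3]
          exact mul_le_mul a1 a2 (by nlinarith only [hq]) (by nlinarith only [hq, hk3])
        linarith only [h5, h6, poly4 hq]
  -- the end
  have hHg : H ∣ g := by
    have : H ∣ g * d := ⟨e1 - e2 * V, by linarith only [hmain]⟩
    rcases hd with rfl | rfl
    · simpa using this
    · simpa using this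
  obtain ⟨g', hg'⟩ := hHg
  have hg'c : g' = 1 ∨ g' = 2 ∨ g' = 4 := by
    have hg'0 : 0 < g' := by
      rcases hg with rfl | rfl | rfl <;> nlinarith only [hH, hg']
    have : g' ∣ g := Dvd.intro_left H hg'.symm
    have hle := Int.le_of_dvd (by (clear * - hg; omega)) this
    rcases hg with rfl | rfl | rfl
    · omega
    · omega
    · interval_cases g' <;> omega
  have hV' : e2 * V = e1 - g' * d := by
    have : H * (e2 * V) = H * (e1 - g' * d) := by
      rw [hg'] at hmain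
      linarith only [hmain]
    exact mul_left_cancel₀ hH.ne' this
  have hU' : V * (U + e2) = g' * B := by
    have : H * (V * (U + e2)) = H * (g' * B) := by
      have a1 : 2 * (H * (V * (U + e2))) = 2 * (g * B) := by
        linear_combination 2 * hE + g * hA - g * hB - 2 * hmain
      rw [hg'] at a1
      linarith only [a1]
    exact mul_left_cancel₀ hH.ne' this
  exact endB hd hqd hB hu he1 he2 hg'c hs hp1 hp2 hne h7 hV' hU'

/-- **The `4`-case.** -/
theorem core4 {z : ℤ} (hd : d = 1 ∨ d = -1) (hq : 17 ≤ q) (hqd : q % 4 = d % 4) (hA : 2 * A = q ^ 3 + d)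
    (hz : 2 * z = q ^ 2 + 1) (hu : 2 ≤ u)
    (he1 : e1 = 1 ∨ e1 = -1) (he2 : e2 = 1 ∨ e2 = -1) (hg : g = 1 ∨ g = 2 ∨ g = 4) (hgu : g = 1 ∨ u % 2 = 1)
    (hH : 0 < H) (hE : H * (u ^ (s + m) + e1) = g * A) (hzs : z ∣ u ^ s + e2) (hs : 1 ≤ s)
    (hm0 : m = 0 → e1 = -e2) (hco : IsCoprime u q) : False := by
  have hV1 := one_le_pow' hu m
  have hU1 := one_le_pow' hu s
  have hz0 : 0 < z := by linarith only [hz, _root_.sq_nonneg (q : ℤ)]
  have hUz : z ≤ u ^ s + e2 := by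
    refine Int.le_of_dvd ?_ hzs
    have := (le_self_pow₀ (by omega : 1 ≤ u) (by omega) : u ≤ u ^ s)
    (clear * - hu he2 this; omega)
  obtain ⟨t, ht⟩ : ∃ t, q - d = 4 * t := by
    obtain ⟨t, ht⟩ : (4 : ℤ) ∣ q - d := Int.dvd_of_emod_eq_zero (by omega)
    exact ⟨t, ht⟩
  have hz2 : z % 2 = 1 := by
    have h4 : q ^ 2 % 4 = 1 := by
      have : q % 4 = 1 ∨ q % 4 = 3 := by rcases hd with rfl | rfl <;> omega
      rcases this with h | h <;> simp [pow_succ, Int.mul_emod, h]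
    omega
  have hcoV : IsCoprime (u ^ m) q := hco.pow_left
  have hpm : u ^ (s + m) = u ^ s * u ^ m := pow_add u s m
  rw [hpm] at hE
  have hp : m = 0 ∨ 1 ≤ m ∧ u ≤ u ^ m := pow_cases hu m
  have hVo : u % 2 = 1 → u ^ m % 2 = 1 := fun h => odd_pow h m
  set U := u ^ s with hUd
  set V := u ^ m with hVd
  have hA' : A = q * z - 2 * t := by
    have : 2 * A = 2 * (q * z - 2 * t) := by linear_combination hA - q * hz - ht
    linarith only [this]
  -- divisibility
  have hkey : H * (e1 - e2 * V) + 2 * (g * t) = g * q * z - (H * V) * (U + e2) := by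
    rw [hA'] at hE
    linear_combination hE
  have h1 : z ∣ H * (e1 - e2 * V) + 2 * (g * t) := by
    rw [hkey]
    exact dvd_sub (Dvd.intro_left _ rfl) (Dvd.dvd.mul_left hzs _)
  have hgA : 2 * (g * A) ≤ g * (q ^ 3 + 1) := by
    rcases hg with rfl | rfl | rfl <;> rcases hd with rfl | rfl <;> linarith only [hA]
  have hX : H * (U * V - 1) ≤ g * A := by
    rw [← hE]
    apply mul_le_mul_of_nonneg_left _ hH.le
    rcases he1 with rfl | rfl <;> omega
  have ht0 : 0 < t := by rcases hd with rfl | rfl <;> (clear * - hq hqd ht; omega)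
  have htq : 4 * t ≤ q + 1 := by rcases hd with rfl | rfl <;> omega
  have hg0 : 0 < g := by (clear * - hg; omega)
  have habs : |H * (e1 - e2 * V) + 2 * (g * t)| ≤ H * (V + 1) + 2 * (g * t) := by
    have e1' : |H * (e1 - e2 * V) + 2 * (g * t)| ≤ |H * (e1 - e2 * V)| + |2 * (g * t)| := abs_add_le _ _
    have e2' : |H * (e1 - e2 * V)| ≤ H * (V + 1) := by
      rw [abs_mul, abs_of_pos hH]
      apply mul_le_mul_of_nonneg_left _ hH.le
      rw [abs_le]
      rcases he1 with rfl | rfl <;> rcases he2 with rfl | rfl <;> (clear * - hV1; omega)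
    have e3' : |2 * (g * t)| = 2 * (g * t) := abs_of_pos (by (clear * - ht0 hg0; positivity))
    linarith only [e1', e2', e3']
  have hmain : H * (e1 - e2 * V) + 2 * (g * t) = 0 := by
    rcases hg with rfl | hg
    · -- `g = 1`
      refine eq_zero_of_dvd_abs h1 (lt_of_le_of_lt habs ?_)
      by_contra hcon
      rw [not_lt] at hcon
      rcases hp with hm | ⟨-, hm⟩
      · have hV : V = 1 := by rw [hVd, hm, pow_zero]
        rw [hV] at hX hcon
        have h3 : q ^ 2 - 3 ≤ 2 * (U - 1) := by rcases he2 with rfl | rfl <;> linarith only [hz, hUz]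
        have h4 : H * (q ^ 2 - 3) ≤ q ^ 3 + 1 := by
          have : H * (q ^ 2 - 3) ≤ H * (2 * (U - 1)) := mul_le_mul_of_nonneg_left h3 hH.le
          linarith only [hgA, hX, this]
        have h5 : (q ^ 2 - q) * (q ^ 2 - 3) ≤ 4 * (q ^ 3 + 1) := by
          have h6 : (q ^ 2 - q) * (q ^ 2 - 3) ≤ (4 * H) * (q ^ 2 - 3) :=
            mul_le_mul_of_nonneg_right (by linarith only [hz, htq, hcon]) (by nlinarith only [hq])
          linarith only [h4, h6]
        linarith only [h5, poly5 hq]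
      · have h3 := bound_two hH hU1 (by omega : 2 ≤ V) hX
        have h4 : H * (V + 1) * (q ^ 2 - 2) ≤ H * (V + 1) * (2 * U - 1) :=
          mul_le_mul_of_nonneg_left (by rcases he2 with rfl | rfl <;> linarith only [hz, hUz]) (by positivity)
        have h5 : (q ^ 2 - q) * (q ^ 2 - 2) ≤ 3 * (q ^ 3 + 1) := by
          have h6 : (q ^ 2 - q) * (q ^ 2 - 2) ≤ (2 * (H * (V + 1))) * (q ^ 2 - 2) :=
            mul_le_mul_of_nonneg_right (by linarith only [hz, htq, hcon]) (by nlinarith only [hq])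
          linarith only [hgA, h3, h4, h6]
        linarith only [h5, poly6 hq]
    · have hu2 : u % 2 = 1 := by
        rcases hgu with h | h
        · rcases hg with rfl | rfl <;> omega
        · exact h
      have hVo' := hVo hu2
      have hev : (H * (e1 - e2 * V) + 2 * (g * t)) % 2 = 0 := by
        have a1 : (e1 - e2 * V) % 2 = 0 := by rcases he1 with rfl | rfl <;> rcases he2 with rfl | rfl <;> (clear * - hVo'; omega)
        obtain ⟨b, hb⟩ := Int.dvd_of_emod_eq_zero a1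
        rw [hb, show H * (2 * b) = 2 * (H * b) by ring]
        omega
      refine eq_zero_of_dvd_even h1 hz2 hev (lt_of_le_of_lt habs ?_)
      by_contra hcon
      rw [not_lt] at hcon
      have hg4 : g ≤ 4 := by omega
      have hq3 : 0 ≤ q ^ 3 + 1 := by positivity
      have hg8 : g * (q ^ 3 + 1) ≤ 4 * (q ^ 3 + 1) := mul_le_mul_of_nonneg_right hg4 hq3
      have hgt : 2 * (g * t) ≤ 2 * (q + 1) := by
        have : g * t ≤ 4 * t := mul_le_mul_of_nonneg_right hg4 ht0.le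
        linarith only [htq, this]
      rcases hp with hm | ⟨-, hm⟩
      · have hV : V = 1 := by rw [hVd, hm, pow_zero]
        rw [hV] at hX hcon
        have h3 : q ^ 2 - 3 ≤ 2 * (U - 1) := by rcases he2 with rfl | rfl <;> linarith only [hz, hUz]
        have h4 : H * (q ^ 2 - 3) ≤ 4 * (q ^ 3 + 1) := by
          have : H * (q ^ 2 - 3) ≤ H * (2 * (U - 1)) := mul_le_mul_of_nonneg_left h3 hH.le
          linarith only [hgA, hX, hg8, this]
        have h5 : (q ^ 2 - 2 * q - 1) * (q ^ 2 - 3) ≤ 8 * (q ^ 3 + 1) := by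
          have h6 : (q ^ 2 - 2 * q - 1) * (q ^ 2 - 3) ≤ (2 * H) * (q ^ 2 - 3) :=
            mul_le_mul_of_nonneg_right (by linarith only [hz, hcon, hgt]) (by nlinarith only [hq])
          linarith only [h4, h6]
        linarith only [h5, poly7 hq]
      · have hV3 : 3 ≤ V := by omega
        have h3 := bound_three hH hU1 hV3 hX
        have h4 : H * (V + 1) * (3 * q ^ 2 - 5) ≤ H * (V + 1) * (2 * (3 * U - 1)) :=
          mul_le_mul_of_nonneg_left (by rcases he2 with rfl | rfl <;> linarith only [hz, hUz]) (by positivity)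
        have h5 : (q ^ 2 - 2 * q - 1) * (3 * q ^ 2 - 5) ≤ 16 * (q ^ 3 + 1) := by
          have h6 : (q ^ 2 - 2 * q - 1) * (3 * q ^ 2 - 5) ≤ (H * (V + 1)) * (3 * q ^ 2 - 5) :=
            mul_le_mul_of_nonneg_right (by linarith only [hz, hcon, hgt]) (by nlinarith only [hq])
          linarith only [hgA, hg8, h3, h4, h6]
        linarith only [h5, poly8 hq]
  -- the end
  rw [hmain] at hkey
  obtain ⟨y, hy⟩ := hzs
  have h2 : g * q = H * V * y := by
    apply mul_right_cancel₀ hz0.ne'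
    rw [hy] at hkey
    linarith only [hkey]
  have h3 : V ∣ g := by
    have : V ∣ g * q := ⟨H * y, by rw [h2]; ring⟩
    exact hcoV.dvd_of_dvd_mul_right this
  have hVone : V = 1 := by
    rcases hp with hm | ⟨-, hm⟩
    · rw [hVd, hm, pow_zero]
    · have h4 := Int.le_of_dvd hg0 h3
      rcases hg with rfl | hg
      · omega
      · have hu2 : u % 2 = 1 := by
          rcases hgu with h | h
          · rcases hg with rfl | rfl <;> omega
          · exact h
        have := hVo hu2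
        rcases hg with rfl | rfl
        · omega
        · have h5 : V = 3 := by (clear * - hu hm this h4; omega)
          rw [h5] at h3
          omega
  have hm : m = 0 := by
    rcases hp with hm | ⟨-, hm⟩
    · exact hm
    · omega
  have he := hm0 hm
  rw [hVone] at hmain h2
  rw [mul_one] at h2
  -- `H = g t`, `q = t y`
  have h4 : H = g * t := by
    rcases he2 with rfl | rfl
    · rw [he] at hmain
      linarith only [hmain]
    · rw [he] at hmain
      nlinarith only [hq, hA, hH, ht, hgA, hg0, hmain]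
  have h5 : q = t * y := by
    apply mul_left_cancel₀ hg0.ne'
    rw [h2, h4]
    ring
  have h6 : t ∣ d := by
    have : d = t * (y - 4) := by linear_combination h5 - ht
    exact ⟨_, this⟩
  have h7 : t ≤ 1 := by
    rcases hd with rfl | rfl
    · exact Int.le_of_dvd (by norm_num) h6
    · exact Int.le_of_dvd (by norm_num) (by simpa using h6)
  rcases hd with rfl | rfl <;> (clear * - hq h7 ht; omega)

end

end Cfsg.Agent.R2.Spec.X4.H10
end
end
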